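import Mathlib.RingTheory.TensorProduct.Basic
import Mathlib.RingTheory.Flat.Basic
import Mathlib.LinearAlgebra.TensorProduct.RightExactness
import Mathlib.RingTheory.Spectrum.Prime.RingHom
import Mathlib.RingTheory.Spectrum.Prime.Topology

/-!
Averaging operators for coactions on algebras: images of closed invariant sets are closed and disjoint closed
invariant sets have disjoint images.
-/

set_option autoImplicit false

universe u

open TensorProduct PrimeSpectrum

namespace Groth.Agent.H60.AffQuot

noncomputable section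

variable {k : Type u} [Field k] {A : Type u} [CommRing A] [Algebra k A] (α : A →ₗ[k] k)
variable {T : Type u} [CommRing T] [Algebra k T]

variable (T) in
/-- Contraction of the group factor with a functional. -/
def ctr : A ⊗[k] T →ₗ[k] T := (TensorProduct.lid k T).toLinearMap ∘ₗ α.rTensor T

theorem ctr_tmul (a : A) (t : T) : ctr α T (a ⊗ₜ[k] t) = α a • t := by
  simp [ctr]

variable (T) in
/-- The inclusion of the functions on the space. -/
abbrev inR : T →ₐ[k] A ⊗[k] T := Algebra.TensorProduct.includeRight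

theorem ctr_mul_inR (x : A ⊗[k] T) (t : T) : ctr α T (x * inR (A := A) T t) = ctr α T x * t := by
  induction x using TensorProduct.induction_on with
  | zero => simp
  | add p q hp hq => rw [add_mul, map_add, hp, hq, map_add, add_mul]
  | tmul a s => simp [ctr_tmul]

theorem ctr_inR (h1 : α 1 = 1) (t : T) : ctr α T (inR (A := A) T t) = t := by
  simp [ctr_tmul, h1]

variable {B : Type u} [CommRing B] [Algebra B T]

/-- An averaging operator for a coaction `d` relative to the base `B`. -/
structure Avg (d : T →+* A ⊗[k] T) where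
  one : α 1 = 1
  E : T →+ B
  E_mul : ∀ b t, E (algebraMap B T b * t) = b * E t
  E_one : E 1 = 1
  alg : ∀ t, algebraMap B T (E t) = ctr α T (d t)

variable {α} {d : T →+* A ⊗[k] T} (D : Avg (B := B) α d)

include D

namespace Avg

theorem E_algebraMap (b : B) : D.E (algebraMap B T b) = b := by
  rw [← mul_one (algebraMap B T b), D.E_mul, D.E_one, mul_one]

theorem injective : Function.Injective (algebraMap B T) :=
  Function.LeftInverse.injective D.E_algebraMap

theorem eq_of_invariant {t : T} (ht : d t = inR (A := A) T t) : algebraMap B T (D.E t) = t := by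
  rw [D.alg, ht, ctr_inR α D.one]

/-- An ideal stable under the coaction. -/
def Stable (_D : Avg (B := B) α d) (I : Ideal T) : Prop := ∀ t ∈ I, d t ∈ I.map (inR (A := A) T)

theorem ctr_mem {I : Ideal T} {x : A ⊗[k] T} (hx : x ∈ I.map (inR (A := A) T)) : ctr α T x ∈ I := by
  rw [Ideal.map] at hx
  induction hx using Submodule.span_induction with
  | mem x hx =>
    obtain ⟨t, ht, rfl⟩ := hx
    rw [ctr_inR α D.one]
    exact ht
  | zero => rw [map_zero]; exact I.zero_mem
  | add p q _ _ hp hq => rw [map_add]; exact I.add_mem hp hq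
  | smul c x hx' _ =>
    rw [smul_eq_mul]
    clear * - D hx'
    induction hx' using Submodule.span_induction generalizing c with
    | mem x hx =>
      obtain ⟨t, ht, rfl⟩ := hx
      rw [ctr_mul_inR]
      exact I.mul_mem_left _ ht
    | zero => rw [mul_zero, map_zero]; exact I.zero_mem
    | add p q _ _ hp hq => rw [mul_add, map_add]; exact I.add_mem (hp c) (hq c)
    | smul e x _ ih => rw [smul_eq_mul, ← mul_assoc]; exact ih (c * e)

theorem E_mem {I : Ideal T} (hI : D.Stable I) {t : T} (ht : t ∈ I) : D.E t ∈ I.comap (algebraMap B T) := by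
  rw [Ideal.mem_comap, D.alg]
  exact D.ctr_mem (hI t ht)

omit D in
theorem mem_map_of_map_eq_zero (I : Ideal T) {x : A ⊗[k] T}
    (hx : (Ideal.Quotient.mkₐ k I).toLinearMap.lTensor A x = 0) : x ∈ I.map (inR (A := A) T) := by
  have hex := lTensor_exact A (LinearMap.exact_subtype_ker_map (Ideal.Quotient.mkₐ k I).toLinearMap)
    Ideal.Quotient.mk_surjective
  obtain ⟨w, rfl⟩ := (hex x).1 hx
  induction w using TensorProduct.induction_on with
  | zero => simp
  | add p q hp hq =>
    rw [map_add]
    exact add_mem (hp (by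
      rw [← LinearMap.comp_apply, ← LinearMap.lTensor_comp, show (Ideal.Quotient.mkₐ k I).toLinearMap ∘ₗ
        (LinearMap.ker (Ideal.Quotient.mkₐ k I).toLinearMap).subtype = 0 from LinearMap.comp_ker_subtype _,
        LinearMap.lTensor_zero, LinearMap.zero_apply])) (hq (by
      rw [← LinearMap.comp_apply, ← LinearMap.lTensor_comp, show (Ideal.Quotient.mkₐ k I).toLinearMap ∘ₗ
        (LinearMap.ker (Ideal.Quotient.mkₐ k I).toLinearMap).subtype = 0 from LinearMap.comp_ker_subtype _,
        LinearMap.lTensor_zero, LinearMap.zero_apply]))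
  | tmul a s =>
    have hs : (s : T) ∈ I := Ideal.Quotient.eq_zero_iff_mem.1 s.2
    rw [LinearMap.lTensor_tmul, show a ⊗ₜ[k] ((LinearMap.ker (Ideal.Quotient.mkₐ k I).toLinearMap).subtype s) =
      (a ⊗ₜ[k] (1 : T)) * inR (A := A) T (s : T) by simp]
    exact Ideal.mul_mem_left _ _ (Ideal.mem_map_of_mem _ hs)

variable (k A) in
omit D in
/-- Reduced algebras stay reduced after tensoring with the group. -/
def GeomRed : Prop := ∀ (S : Type u) [CommRing S] [Algebra k S], IsReduced S → IsReduced (A ⊗[k] S)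

omit D in
/-- An invariant closed set. -/
def InvSet (d : T →+* A ⊗[k] T) (W : Set (PrimeSpectrum T)) : Prop :=
  ∀ Q : PrimeSpectrum (A ⊗[k] T), PrimeSpectrum.comap (inR (A := A) T).toRingHom Q ∈ W → PrimeSpectrum.comap d Q ∈ W

theorem stable_vanishingIdeal (hA : GeomRed k A) {W : Set (PrimeSpectrum T)} (hW : IsClosed W)
    (hWi : InvSet d W) : D.Stable (vanishingIdeal W) := by
  intro t ht
  set I := vanishingIdeal W with hI
  haveI : IsReduced (T ⧸ I) := (Ideal.isRadical_iff_quotient_reduced _).1 (isRadical_vanishingIdeal W)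
  haveI := hA (T ⧸ I) inferInstance
  have hrad : d t ∈ (I.map (inR (A := A) T)).radical := by
    rw [Ideal.radical_eq_sInf, Ideal.mem_sInf]
    rintro Q ⟨hle, hQ⟩
    have hmem : PrimeSpectrum.comap (inR (A := A) T).toRingHom ⟨Q, hQ⟩ ∈ W := by
      rw [← hW.closure_eq, ← zeroLocus_vanishingIdeal_eq_closure]
      intro x hx
      exact hle (Ideal.mem_map_of_mem _ hx)
    exact (mem_vanishingIdeal W t).1 ht _ (hWi ⟨Q, hQ⟩ hmem)
  obtain ⟨n, hn⟩ := hrad
  refine mem_map_of_map_eq_zero I ?_
  let π : A ⊗[k] T →ₐ[k] A ⊗[k] (T ⧸ I) := Algebra.TensorProduct.map (AlgHom.id k A) (Ideal.Quotient.mkₐ k I)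
  have hle : I.map (inR (A := A) T) ≤ RingHom.ker π := by
    rw [Ideal.map_le_iff_le_comap]
    intro x hx
    simp [π, Ideal.mem_comap, RingHom.mem_ker, Ideal.Quotient.eq_zero_iff_mem.2 hx]
  have h0 : π (d t) = 0 := IsReduced.eq_zero _ ⟨n, by rw [← map_pow]; exact hle hn⟩
  exact h0

theorem exists_over {I : Ideal T} (hI : D.Stable I) (p : PrimeSpectrum B)
    (hp : I.comap (algebraMap B T) ≤ p.asIdeal) :
    ∃ q : PrimeSpectrum T, I ≤ q.asIdeal ∧ PrimeSpectrum.comap (algebraMap B T) q = p := by
  have h : p ∈ Set.range (PrimeSpectrum.comap ((Ideal.Quotient.mk I).comp (algebraMap B T))) := by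
    rw [mem_range_comap_iff]
    refine le_antisymm (fun b hb => ?_) Ideal.le_comap_map
    rw [Ideal.mem_comap, RingHom.comp_apply, ← Ideal.map_map, ← Ideal.mem_comap,
      Ideal.comap_map_of_surjective _ Ideal.Quotient.mk_surjective, ← RingHom.ker_eq_comap_bot,
      Ideal.mk_ker] at hb
    obtain ⟨x, hx, i, hi, hxi⟩ := Submodule.mem_sup.1 hb
    have hb' : b = D.E x + D.E i := by rw [← map_add, hxi, D.E_algebraMap]
    rw [hb']
    refine p.asIdeal.add_mem ?_ (hp (D.E_mem hI hi))
    clear hxi hb' hb hi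
    rw [Ideal.map] at hx
    induction hx using Submodule.span_induction with
    | mem x hx => obtain ⟨c, hc, rfl⟩ := hx; rw [D.E_algebraMap]; exact hc
    | zero => rw [map_zero]; exact p.asIdeal.zero_mem
    | add u v _ _ hu hv => rw [map_add]; exact p.asIdeal.add_mem hu hv
    | smul c x hx' _ =>
      clear * - D hx'
      rw [smul_eq_mul]
      induction hx' using Submodule.span_induction generalizing c with
      | mem x hx =>
        obtain ⟨e, he, rfl⟩ := hx
        rw [mul_comm, D.E_mul]
        exact p.asIdeal.mul_mem_right _ he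
      | zero => rw [mul_zero, map_zero]; exact p.asIdeal.zero_mem
      | add u v _ _ hu hv => rw [mul_add, map_add]; exact p.asIdeal.add_mem (hu c) (hv c)
      | smul e x _ ih => rw [smul_eq_mul, ← mul_assoc]; exact ih (c * e)
  obtain ⟨q, hq⟩ := h
  refine ⟨PrimeSpectrum.comap (Ideal.Quotient.mk I) q, fun x hx => ?_, ?_⟩
  · show Ideal.Quotient.mk I x ∈ q.asIdeal
    rw [Ideal.Quotient.eq_zero_iff_mem.2 hx]
    exact q.asIdeal.zero_mem
  · rw [← PrimeSpectrum.comap_comp_apply]
    exact hq

theorem surjective : Function.Surjective (PrimeSpectrum.comap (algebraMap B T)) := fun p => by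
  obtain ⟨q, -, hq⟩ := D.exists_over (I := ⊥) (fun t ht => by
    rw [(Submodule.mem_bot T).1 ht, map_zero]; exact Submodule.zero_mem _) p (fun b hb => by
      rw [Ideal.mem_comap, Submodule.mem_bot, ← map_zero (algebraMap B T)] at hb
      rw [D.injective hb]
      exact p.asIdeal.zero_mem)
  exact ⟨q, hq⟩

theorem image_eq (hA : GeomRed k A) {W : Set (PrimeSpectrum T)} (hW : IsClosed W) (hWi : InvSet d W) :
    PrimeSpectrum.comap (algebraMap B T) '' W =
      zeroLocus ((vanishingIdeal W).comap (algebraMap B T) : Set B) := by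
  refine Set.Subset.antisymm ?_ fun p hp => ?_
  · rintro _ ⟨q, hq, rfl⟩ b hb
    exact (mem_vanishingIdeal W _).1 hb q hq
  · obtain ⟨q, hq, hqp⟩ := D.exists_over (D.stable_vanishingIdeal hA hW hWi) p hp
    refine ⟨q, ?_, hqp⟩
    rw [← hW.closure_eq, ← zeroLocus_vanishingIdeal_eq_closure]
    exact hq

theorem isClosed_image (hA : GeomRed k A) {W : Set (PrimeSpectrum T)} (hW : IsClosed W) (hWi : InvSet d W) :
    IsClosed (PrimeSpectrum.comap (algebraMap B T) '' W) := by
  rw [D.image_eq hA hW hWi]
  exact isClosed_zeroLocus _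

/-- The images of a family of closed invariant sets meet exactly in the image of their intersection. -/
theorem iInter_image (hA : GeomRed k A) {ι : Type*} (W : ι → Set (PrimeSpectrum T))
    (hW : ∀ i, IsClosed (W i)) (hWi : ∀ i, InvSet d (W i)) :
    (⋂ i, PrimeSpectrum.comap (algebraMap B T) '' W i) ⊆ PrimeSpectrum.comap (algebraMap B T) '' ⋂ i, W i := by
  classical
  intro p hp
  simp only [Set.mem_iInter] at hp
  let J : Ideal T := ⨆ i, vanishingIdeal (W i)
  have hJ : ∀ t ∈ J, d t ∈ J.map (inR (A := A) T) := fun t ht => by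
    refine Submodule.iSup_induction _ (motive := fun t => d t ∈ J.map (inR (A := A) T)) ht (fun i x hx => ?_) ?_ ?_
    · exact Ideal.map_mono (le_iSup (fun i => vanishingIdeal (W i)) i) (D.stable_vanishingIdeal hA (hW i) (hWi i) x hx)
    · simp
    · intro x y hx hy; rw [map_add]; exact add_mem hx hy
  have hle : J.comap (algebraMap B T) ≤ p.asIdeal := fun b hb => by
    rw [← D.E_algebraMap b]
    rw [Ideal.mem_comap] at hb
    refine Submodule.iSup_induction _ (motive := fun x => D.E x ∈ p.asIdeal) hb (fun i x hx => ?_) ?_ ?_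
    · have h := hp i
      rw [D.image_eq hA (hW i) (hWi i)] at h
      exact h (D.E_mem (D.stable_vanishingIdeal hA (hW i) (hWi i)) hx)
    · simp
    · intro x y hx hy; rw [map_add]; exact p.asIdeal.add_mem hx hy
  obtain ⟨q, hq, hqp⟩ := D.exists_over hJ p hle
  refine ⟨q, Set.mem_iInter.2 fun i => ?_, hqp⟩
  rw [← (hW i).closure_eq, ← zeroLocus_vanishingIdeal_eq_closure]
  exact fun x hx => hq (le_iSup (fun i => vanishingIdeal (W i)) i hx)

/-- Disjoint closed invariant sets are separated by an invariant. -/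
theorem exists_separating (hA : GeomRed k A) {W₁ W₂ : Set (PrimeSpectrum T)} (h₁ : IsClosed W₁) (h₂ : IsClosed W₂)
    (hi₁ : InvSet d W₁) (hi₂ : InvSet d W₂) (hd : Disjoint W₁ W₂) :
    ∃ b : B, W₁ ⊆ zeroLocus {algebraMap B T b} ∧ W₂ ⊆ zeroLocus {1 - algebraMap B T b} := by
  have htop : vanishingIdeal W₁ ⊔ vanishingIdeal W₂ = ⊤ := by
    rw [← zeroLocus_empty_iff_eq_top, Submodule.coe_sup]
    refine Set.subset_empty_iff.1 fun q hq => ?_
    have h1 : q ∈ W₁ := by
      rw [← h₁.closure_eq, ← zeroLocus_vanishingIdeal_eq_closure]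
      exact fun x hx => hq ⟨x, hx, 0, Submodule.zero_mem _, add_zero _⟩
    have h2 : q ∈ W₂ := by
      rw [← h₂.closure_eq, ← zeroLocus_vanishingIdeal_eq_closure]
      exact fun x hx => hq ⟨0, Submodule.zero_mem _, x, hx, zero_add _⟩
    exact Set.disjoint_left.1 hd h1 h2
  obtain ⟨i₁, hi₁', i₂, hi₂', hsum⟩ := Submodule.mem_sup.1 ((Ideal.eq_top_iff_one _).1 htop)
  have hsum' : algebraMap B T (D.E i₁) + algebraMap B T (D.E i₂) = 1 := by
    rw [← map_add, ← map_add, hsum, D.E_one, map_one]
  refine ⟨D.E i₁, fun q hq => ?_, fun q hq => ?_⟩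
  · rw [mem_zeroLocus, Set.singleton_subset_iff]
    exact (mem_vanishingIdeal W₁ _).1 (D.E_mem (D.stable_vanishingIdeal hA h₁ hi₁) hi₁') q hq
  · rw [mem_zeroLocus, Set.singleton_subset_iff, ← hsum', add_sub_cancel_left]
    exact (mem_vanishingIdeal W₂ _).1 (D.E_mem (D.stable_vanishingIdeal hA h₂ hi₂) hi₂') q hq

end Avg

end

end Groth.Agent.H60.AffQuot
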