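import Groth.Prelude.Def_CoactBr
import Groth.Agent.H60.AffQuot.Avg
import Groth.Agent.H66.Tame

/-!
An action of an affine group on an affine scheme as a coaction, and its averaging operator.
-/

set_option autoImplicit false

universe u

open CategoryTheory MonoidalCategory CartesianMonoidalCategory MonObj AlgebraicGeometry TensorProduct CoactBr

namespace Groth.Agent.H60.AffQuot

noncomputable section

variable {k : Type u} [Field k]

/-- A morphism between affine schemes over the base comes from an algebra map. -/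
theorem exists_pt {B K : Type u} [CommRing B] [CommRing K] [Algebra k B] [Algebra k K] (f : sp k K ⟶ sp k B) :
    ∃ φ : B →ₐ[k] K, pt φ = f := by
  obtain ⟨h, hh⟩ : ∃ h, Spec.map h = f.left := ⟨_, Spec.map_preimage f.left⟩
  have hw : CommRingCat.ofHom (algebraMap k B) ≫ h = CommRingCat.ofHom (algebraMap k K) := by
    refine Spec.map_injective ?_
    rw [Spec.map_comp, hh]
    exact Over.w f
  refine ⟨{ h.hom with commutes' := fun c => congrArg (fun g => g.hom c) hw }, Over.OverMorphism.ext ?_⟩
  rw [pt_left, ← hh]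
  rfl

variable {A : Type u} [CommRing A] [HopfAlgebra k A] {G X : Over (Spec (CommRingCat.of k))} [GrpObj G]
  (e : G ≅ sp k A) [IsMonHom e.hom] {R : Type u} [CommRing R] [Algebra k R] (eX : X ≅ sp k R)
  (a : AlgGrp.Action G X)

section Points

variable {T : Type u} [CommRing T] [Algebra k T]

/-- A point of the group. -/
def gPt (g : A →ₐ[k] T) : sp k T ⟶ G := pt g ≫ e.inv

/-- A point of the space. -/
def xPt (x : R →ₐ[k] T) : sp k T ⟶ X := pt x ≫ eX.inv

theorem pt_gPt {T' : Type u} [CommRing T'] [Algebra k T'] (g : A →ₐ[k] T) (ψ : T →ₐ[k] T') :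
    pt ψ ≫ gPt e g = gPt e (ψ.comp g) := by
  rw [gPt, gPt, pt_comp, Category.assoc]

theorem pt_xPt {T' : Type u} [CommRing T'] [Algebra k T'] (x : R →ₐ[k] T) (ψ : T →ₐ[k] T') :
    pt ψ ≫ xPt eX x = xPt eX (ψ.comp x) := by
  rw [xPt, xPt, pt_comp, Category.assoc]

theorem xPt_injective : Function.Injective (xPt eX : (R →ₐ[k] T) → _) := fun x y h =>
  pt_injective ((cancel_mono eX.inv).1 h)

theorem gPt_mul (g h : A →ₐ[k] T) :
    gPt e g * gPt e h =
      gPt e ((Algebra.TensorProduct.lift g h fun _ _ => .all _ _).comp (Bialgebra.comulAlgHom k A)) := by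
  haveI : IsMonHom e.inv := inferInstance
  rw [gPt, gPt, gPt, ← MonObj.mul_comp, pt_mul_pt]

theorem gPt_one : gPt e ((Algebra.ofId k T).comp (Bialgebra.counitAlgHom k A)) = 1 := by
  haveI : IsMonHom e.inv := inferInstance
  rw [gPt, ← one_eq_pt, MonObj.one_comp]

end Points

theorem lift_mul_act {W : Over (Spec (CommRingCat.of k))} (g h : W ⟶ G) (x : W ⟶ X) :
    lift (g * h) x ≫ a.act = lift g (lift h x ≫ a.act) ≫ a.act := by
  rw [Hom.mul_def, ← lift_whiskerRight, Category.assoc, a.mul_act, lift_lift_associator_hom_assoc,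
    lift_whiskerLeft_assoc]

theorem lift_one_act {W : Over (Spec (CommRingCat.of k))} (x : W ⟶ X) : lift (1 : W ⟶ G) x ≫ a.act = x := by
  rw [Hom.one_def, ← lift_whiskerRight, Category.assoc, a.one_act, lift_leftUnitor_hom]

/-- The functions on the product of the group and the space. -/
def prodPt : sp k (A ⊗[k] R) ⟶ G ⊗ X :=
  lift (gPt e Algebra.TensorProduct.includeLeft) (xPt eX Algebra.TensorProduct.includeRight)

theorem lift_gPt_xPt {T : Type u} [CommRing T] [Algebra k T] (g : A →ₐ[k] T) (x : R →ₐ[k] T) :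
    lift (gPt e g) (xPt eX x) = pt (Algebra.TensorProduct.lift g x fun _ _ => .all _ _) ≫ prodPt e eX := by
  rw [prodPt, comp_lift, pt_gPt, pt_xPt, Algebra.TensorProduct.lift_comp_includeLeft,
    Algebra.TensorProduct.lift_comp_includeRight']

instance isIso_prodPt : IsIso (prodPt e eX) := by
  letI : (algSpec (CommRingCat.of k)).Braided := braidedAlgSpec
  have h : lift (pt (Algebra.TensorProduct.includeLeft : A →ₐ[k] A ⊗[k] R)) (pt Algebra.TensorProduct.includeRight) ≫
      Functor.LaxMonoidal.μ (algSpec (CommRingCat.of k)) (Opposite.op (.of k A)) (Opposite.op (.of k R)) = 𝟙 _ := by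
    rw [lift_pt_pt, Algebra.TensorProduct.lift_includeLeft_includeRight, pt_id]
  have h' : prodPt e eX = lift (pt (Algebra.TensorProduct.includeLeft : A →ₐ[k] A ⊗[k] R))
      (pt Algebra.TensorProduct.includeRight) ≫ (e.inv ⊗ₘ eX.inv) := by
    rw [prodPt, lift_map]
    rfl
  rw [h']
  haveI : IsIso (lift (pt (Algebra.TensorProduct.includeLeft : A →ₐ[k] A ⊗[k] R))
      (pt Algebra.TensorProduct.includeRight)) := by
    rw [show lift (pt (Algebra.TensorProduct.includeLeft : A →ₐ[k] A ⊗[k] R))
      (pt Algebra.TensorProduct.includeRight) = (Functor.Monoidal.μIso (algSpec (CommRingCat.of k))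
        (Opposite.op (CommAlgCat.of k A)) (Opposite.op (CommAlgCat.of k R))).inv from
      (Iso.comp_hom_eq_id _).1 h]
    exact Iso.isIso_inv _
  infer_instance

/-- The coaction of an action. -/
def coact : R →ₐ[k] A ⊗[k] R := (exists_pt (prodPt e eX ≫ a.act ≫ eX.hom)).choose

theorem pt_coact : pt (coact e eX a) = prodPt e eX ≫ a.act ≫ eX.hom :=
  (exists_pt (prodPt e eX ≫ a.act ≫ eX.hom)).choose_spec

theorem act_rule {T : Type u} [CommRing T] [Algebra k T] (g : A →ₐ[k] T) (x : R →ₐ[k] T) :
    lift (gPt e g) (xPt eX x) ≫ a.act =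
      xPt eX ((Algebra.TensorProduct.lift g x fun _ _ => .all _ _).comp (coact e eX a)) := by
  conv_rhs => rw [xPt, pt_comp, pt_coact]
  rw [lift_gPt_xPt]
  simp only [Category.assoc, Iso.hom_inv_id, Category.comp_id, xPt]

theorem coact_coassoc :
    (Algebra.TensorProduct.map (AlgHom.id k A) (coact e eX a)).comp (coact e eX a) =
      (Algebra.TensorProduct.lift
        ((Algebra.TensorProduct.lift (Algebra.TensorProduct.includeLeft (R := k) (A := A) (B := A ⊗[k] R))
          ((Algebra.TensorProduct.includeRight : A ⊗[k] R →ₐ[k] A ⊗[k] (A ⊗[k] R)).comp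
            Algebra.TensorProduct.includeLeft) fun _ _ => .all _ _).comp (Bialgebra.comulAlgHom k A))
        ((Algebra.TensorProduct.includeRight : A ⊗[k] R →ₐ[k] A ⊗[k] (A ⊗[k] R)).comp
          Algebra.TensorProduct.includeRight) fun _ _ => .all _ _).comp (coact e eX a) := by
  refine xPt_injective eX ?_
  rw [← act_rule, ← gPt_mul, lift_mul_act, act_rule, act_rule]
  congr 1
  refine congrArg (fun f : A ⊗[k] R →ₐ[k] A ⊗[k] (A ⊗[k] R) => f.comp (coact e eX a)) ?_
  refine Algebra.TensorProduct.ext' fun b r => ?_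
  rw [Algebra.TensorProduct.map_tmul, Algebra.TensorProduct.lift_tmul, AlgHom.comp_apply, AlgHom.id_apply]
  generalize coact e eX a r = z
  induction z using TensorProduct.induction_on with
  | zero => simp
  | add p q hp hq => simp only [TensorProduct.tmul_add, map_add, mul_add, hp, hq]
  | tmul c s => simp [Algebra.TensorProduct.tmul_mul_tmul]

theorem coact_counit :
    (Algebra.TensorProduct.lift ((Algebra.ofId k R).comp (Bialgebra.counitAlgHom k A)) (AlgHom.id k R)
      fun _ _ => .all _ _).comp (coact e eX a) = AlgHom.id k R := by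
  refine xPt_injective eX ?_
  rw [← act_rule, gPt_one, lift_one_act]

/-- The invariant functions. -/
def inv₀ : Subalgebra k R := AlgHom.equalizer (coact e eX a) Algebra.TensorProduct.includeRight

theorem mem_inv₀ {r : R} : r ∈ inv₀ e eX a ↔ coact e eX a r = (1 : A) ⊗ₜ[k] r := Iff.rfl

variable (α : A →ₗ[k] k)

theorem ctr_natural {T T' : Type u} [CommRing T] [Algebra k T] [CommRing T'] [Algebra k T'] (f : T →ₐ[k] T')
    (z : A ⊗[k] T) : f (ctr α T z) = ctr α T' (Algebra.TensorProduct.map (AlgHom.id k A) f z) := by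
  induction z using TensorProduct.induction_on with
  | zero => simp
  | add p q hp hq => simp only [map_add, hp, hq]
  | tmul b t => simp [ctr_tmul]

variable (h1 : α 1 = 1) (hα : ∀ b, α b ⊗ₜ[k] (1 : A) = α.rTensor A (CoalgebraStruct.comul b))

include hα in
theorem average_mem (r : R) : ctr α R (coact e eX a r) ∈ inv₀ e eX a := by
  rw [mem_inv₀, ctr_natural, ← AlgHom.comp_apply, coact_coassoc, AlgHom.comp_apply]
  generalize coact e eX a r = z
  induction z using TensorProduct.induction_on with
  | zero => simp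
  | add p q hp hq => simp only [map_add, TensorProduct.tmul_add, hp, hq]
  | tmul b s =>
    rw [Algebra.TensorProduct.lift_tmul, AlgHom.comp_apply, AlgHom.comp_apply]
    refine (ctr_mul_inR α _ ((1 : A) ⊗ₜ[k] s)).trans ?_
    have h2 : ∀ t : A ⊗[k] A, ctr α (A ⊗[k] R) ((Algebra.TensorProduct.lift (S := k) (R := k) (A := A) (B := A)
        (Algebra.TensorProduct.includeLeft (R := k) (A := A) (B := A ⊗[k] R))
        ((Algebra.TensorProduct.includeRight : A ⊗[k] R →ₐ[k] A ⊗[k] (A ⊗[k] R)).comp
          Algebra.TensorProduct.includeLeft) fun _ _ => .all _ _) t) =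
        TensorProduct.lid k A (α.rTensor A t) ⊗ₜ[k] (1 : R) := fun t => by
      induction t using TensorProduct.induction_on with
      | zero => simp
      | add p q hp hq => rw [map_add, map_add, hp, hq, map_add, map_add, TensorProduct.add_tmul]
      | tmul c d =>
        show ctr α (A ⊗[k] R) ((c ⊗ₜ[k] (1 : A ⊗[k] R)) * ((1 : A) ⊗ₜ[k] (d ⊗ₜ[k] (1 : R)))) = _
        simp [ctr_tmul, Algebra.TensorProduct.tmul_mul_tmul, TensorProduct.smul_tmul']
    rw [Bialgebra.comulAlgHom_apply, h2, ← hα, TensorProduct.lid_tmul, ctr_tmul]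
    simp [TensorProduct.smul_tmul', TensorProduct.tmul_smul]

include h1 hα

/-- The average as a linear map over the invariants. -/
def average : R →ₗ[inv₀ e eX a] inv₀ e eX a where
  toFun r := ⟨ctr α R (coact e eX a r), average_mem e eX a α hα r⟩
  map_add' r s := Subtype.ext (by simp)
  map_smul' c r := Subtype.ext (by
    show ctr α R (coact e eX a ((c : R) * r)) = (c : R) * ctr α R (coact e eX a r)
    rw [map_mul, show coact e eX a (c : R) = inR (k := k) (A := A) R (c : R) from c.2, mul_comm, ctr_mul_inR,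
      mul_comm])

theorem average_one : average e eX a α hα 1 = 1 := Subtype.ext (by
  show ctr α R (coact e eX a 1) = 1
  rw [map_one, Algebra.TensorProduct.one_def, ctr_tmul, h1, one_smul])

end

end Groth.Agent.H60.AffQuot
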