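import Groth.Agent.H60.AffQuot.Avg
import Mathlib.AlgebraicGeometry.AffineScheme
import Mathlib.AlgebraicGeometry.PullbackCarrier
import Mathlib.AlgebraicGeometry.Gluing

/-!
Morphisms with averaging operators over every affine open: they are quotient maps on points and categorical
quotients.
-/

set_option autoImplicit false

universe u

open CategoryTheory CategoryTheory.Limits AlgebraicGeometry TensorProduct

namespace Groth.Agent.H60.AffQuot

noncomputable section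

variable {k : Type u} [Field k] {A : Type u} [CommRing A] [Algebra k A] (α : A →ₗ[k] k)
variable {GX X Y : Scheme.{u}} (σ p : GX ⟶ X) (φ : X ⟶ Y)

/-- An averaging operator over a piece of the base. -/
structure Chart {B : CommRingCat.{u}} (j : Spec B ⟶ Y) where
  T : CommRingCat.{u}
  [algk : Algebra k T]
  h : B ⟶ T
  d : T →+* A ⊗[k] T
  avg : @Avg k _ A _ _ α T _ _ B _ h.hom.toAlgebra d
  ι : Spec T ⟶ X
  sq : IsPullback ι (Spec.map h) φ j
  κ : Spec (CommRingCat.of (A ⊗[k] T)) ⟶ GX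
  κσ : κ ≫ σ = Spec.map (CommRingCat.ofHom d) ≫ ι
  κp : κ ≫ p = Spec.map (CommRingCat.ofHom (inR (k := k) (A := A) T).toRingHom) ≫ ι

/-- An invariant morphism with averaging operators over all affine opens. -/
structure IsAvgQuot : Prop where
  inv : σ ≫ φ = p ≫ φ
  chart : ∀ ⦃B : CommRingCat.{u}⦄ (j : Spec B ⟶ Y) [IsOpenImmersion j], Nonempty (Chart α σ p φ j)

/-- A set of points stable under the action. -/
def Stab (W : Set X) : Prop := ∀ z : GX, p z ∈ W → σ z ∈ W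

variable {α σ p φ}

namespace Chart

variable {B : CommRingCat.{u}} {j : Spec B ⟶ Y} (c : Chart α σ p φ j)

attribute [local instance] Chart.algk

theorem invSet {W : Set X} (hW : Stab σ p W) : Avg.InvSet c.d (c.ι ⁻¹' W) := fun Q hQ => by
  have h1 : p (c.κ Q) = c.ι (Spec.map (CommRingCat.ofHom (inR (k := k) (A := A) c.T).toRingHom) Q) := by
    rw [← Scheme.Hom.comp_apply, c.κp, Scheme.Hom.comp_apply]
  have h2 : σ (c.κ Q) = c.ι (Spec.map (CommRingCat.ofHom c.d) Q) := by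
    rw [← Scheme.Hom.comp_apply, c.κσ, Scheme.Hom.comp_apply]
  have h3 := hW (c.κ Q) (by rw [h1]; exact hQ)
  rw [h2] at h3
  exact h3

theorem comm (t : Spec c.T) : φ (c.ι t) = j (Spec.map c.h t) := by
  rw [← Scheme.Hom.comp_apply, c.sq.w, Scheme.Hom.comp_apply]

theorem exists_point (x : X) (b : Spec B) (h : φ x = j b) :
    ∃ t : Spec c.T, c.ι t = x ∧ Spec.map c.h t = b := by
  obtain ⟨z, hz1, hz2⟩ := Scheme.Pullback.exists_preimage_pullback x b h
  refine ⟨c.sq.isoPullback.inv z, ?_, ?_⟩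
  · rw [← Scheme.Hom.comp_apply, c.sq.isoPullback_inv_fst, hz1]
  · rw [← Scheme.Hom.comp_apply, c.sq.isoPullback_inv_snd, hz2]

theorem preimage_image (W : Set X) : j ⁻¹' (φ '' W) = (Spec.map c.h) '' (c.ι ⁻¹' W) := by
  ext b
  constructor
  · rintro ⟨x, hx, hxb⟩
    obtain ⟨t, ht, htb⟩ := c.exists_point x b hxb
    exact ⟨t, by rw [Set.mem_preimage, ht]; exact hx, htb⟩
  · rintro ⟨t, ht, rfl⟩
    exact ⟨c.ι t, ht, c.comm t⟩

end Chart

section

variable (hA : Avg.GeomRed k A) (H : IsAvgQuot α σ p φ)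

include H

theorem IsAvgQuot.surjective : Function.Surjective φ := fun y => by
  obtain ⟨R, f, hf, ⟨b, rfl⟩, -⟩ :=
    AlgebraicGeometry.Scheme.exists_affine_mem_range_and_range_subset (U := (⊤ : Y.Opens)) (x := y) trivial
  obtain ⟨c⟩ := H.chart f
  letI := c.algk
  letI := c.h.hom.toAlgebra
  obtain ⟨t, ht⟩ := c.avg.surjective b
  exact ⟨c.ι t, by rw [c.comm]; exact congrArg f ht⟩

include hA

theorem IsAvgQuot.isClosed_image {W : Set X} (hW : IsClosed W) (hWi : Stab σ p W) : IsClosed (φ '' W) := by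
  rw [← isOpen_compl_iff, isOpen_iff_forall_mem_open]
  intro y hy
  obtain ⟨R, f, hf, ⟨b, rfl⟩, -⟩ :=
    AlgebraicGeometry.Scheme.exists_affine_mem_range_and_range_subset (U := (⊤ : Y.Opens)) (x := y) trivial
  obtain ⟨c⟩ := H.chart f
  letI := c.algk
  letI := c.h.hom.toAlgebra
  have hcl : IsClosed (f ⁻¹' (φ '' W)) := by
    rw [c.preimage_image]
    exact c.avg.isClosed_image hA (hW.preimage c.ι.continuous) (c.invSet hWi)
  refine ⟨f '' (f ⁻¹' (φ '' W))ᶜ, ?_, f.isOpenEmbedding.isOpenMap _ hcl.isOpen_compl, b, hy, rfl⟩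
  rintro _ ⟨b', hb', rfl⟩
  exact hb'

theorem IsAvgQuot.isQuotientMap : Topology.IsQuotientMap φ := by
  refine Topology.isQuotientMap_iff_isClosed.2 ⟨H.surjective, fun S => ⟨fun h => h.preimage φ.continuous, fun h => ?_⟩⟩
  rw [← H.surjective.image_preimage S]
  refine H.isClosed_image hA h fun z hz => ?_
  show φ (σ z) ∈ S
  rw [← Scheme.Hom.comp_apply, H.inv, Scheme.Hom.comp_apply]
  exact hz

omit hA

/-- The morphism is cancellable over every open of the base. -/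
theorem IsAvgQuot.hom_ext {O Z : Scheme.{u}} (jO : O ⟶ Y) [IsOpenImmersion jO] {χ χ' : O ⟶ Z}
    (h : pullback.snd φ jO ≫ χ = pullback.snd φ jO ≫ χ') : χ = χ' := by
  have hbase : ∀ o, χ o = χ' o := fun o => by
    obtain ⟨x, hx⟩ := H.surjective (jO o)
    obtain ⟨z, -, rfl⟩ := Scheme.Pullback.exists_preimage_pullback x o hx
    rw [← Scheme.Hom.comp_apply, h, Scheme.Hom.comp_apply]
  refine Scheme.hom_ext_of_forall χ χ' fun o => ?_
  obtain ⟨C, v, hv, hov, -⟩ :=
    AlgebraicGeometry.Scheme.exists_affine_mem_range_and_range_subset (U := (⊤ : Z.Opens)) (x := χ o) trivial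
  haveI := hv
  obtain ⟨R, f, hf, hof, hfsub⟩ :=
    AlgebraicGeometry.Scheme.exists_affine_mem_range_and_range_subset (U := χ ⁻¹ᵁ v.opensRange) (x := o) hov
  haveI := hf
  refine ⟨f.opensRange, hof, ?_⟩
  have key : f ≫ χ = f ≫ χ' := by
    have h1 : Set.range (f ≫ χ) ⊆ Set.range v := by
      rintro _ ⟨r, rfl⟩
      exact hfsub ⟨r, rfl⟩
    have h2 : Set.range (f ≫ χ') ⊆ Set.range v := by
      rintro _ ⟨r, rfl⟩
      rw [Scheme.Hom.comp_apply, ← hbase]
      exact hfsub ⟨r, rfl⟩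
    rw [← IsOpenImmersion.lift_fac v (f ≫ χ) h1, ← IsOpenImmersion.lift_fac v (f ≫ χ') h2]
    congr 1
    obtain ⟨c⟩ := H.chart (f ≫ jO)
    letI := c.algk
    letI := c.h.hom.toAlgebra
    obtain ⟨l₁, hl₁⟩ : ∃ l, Spec.map l = IsOpenImmersion.lift v (f ≫ χ) h1 := ⟨_, Spec.map_preimage _⟩
    obtain ⟨l₂, hl₂⟩ : ∃ l, Spec.map l = IsOpenImmersion.lift v (f ≫ χ') h2 := ⟨_, Spec.map_preimage _⟩
    rw [← hl₁, ← hl₂]
    congr 1
    have he : Spec.map c.h ≫ Spec.map l₁ = Spec.map c.h ≫ Spec.map l₂ := by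
      rw [← cancel_mono v, hl₁, hl₂, Category.assoc, Category.assoc, IsOpenImmersion.lift_fac,
        IsOpenImmersion.lift_fac]
      have hw : c.ι ≫ φ = (Spec.map c.h ≫ f) ≫ jO := by rw [c.sq.w, Category.assoc]
      rw [← Category.assoc, ← Category.assoc, ← pullback.lift_snd c.ι (Spec.map c.h ≫ f) hw, Category.assoc,
        Category.assoc, h]
    rw [← Spec.map_comp, ← Spec.map_comp] at he
    haveI : Mono c.h := ConcreteCategory.mono_of_injective _ c.avg.injective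
    exact (cancel_mono c.h).1 (Spec.map_injective he)
  rw [← cancel_epi (f.isoOpensRange.hom)]
  simpa using key

/-- An invariant morphism factors locally. -/
theorem IsAvgQuot.exists_local (hA : Avg.GeomRed k A) {Z : Scheme.{u}} (ψ : X ⟶ Z) (hψ : σ ≫ ψ = p ≫ ψ) (y : Y) :
    ∃ (B : CommRingCat.{u}) (j : Spec B ⟶ Y) (_ : IsOpenImmersion j) (χ : Spec B ⟶ Z), y ∈ Set.range j ∧
      pullback.fst φ j ≫ ψ = pullback.snd φ j ≫ χ := by
  obtain ⟨R, f, hf, ⟨b, rfl⟩, -⟩ :=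
    AlgebraicGeometry.Scheme.exists_affine_mem_range_and_range_subset (U := (⊤ : Y.Opens)) (x := y) trivial
  haveI := hf
  obtain ⟨c⟩ := H.chart f
  letI := c.algk
  letI := c.h.hom.toAlgebra
  let W : Z.affineOpens → Set (Spec c.T) := fun V => (c.ι ⁻¹' (ψ ⁻¹' ((V.1 : Set Z))))ᶜ
  have hWc : ∀ V, IsClosed (W V) := fun V =>
    ((V.1.isOpen.preimage ψ.continuous).preimage c.ι.continuous).isClosed_compl
  have hWi : ∀ V, Avg.InvSet c.d (W V) := fun V => by
    refine c.invSet (W := (ψ ⁻¹' (V.1 : Set Z))ᶜ) fun z hz h => hz ?_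
    show ψ (p z) ∈ V.1
    rw [← Scheme.Hom.comp_apply, ← hψ, Scheme.Hom.comp_apply]
    exact h
  obtain ⟨V, hV⟩ : ∃ V, b ∉ Spec.map c.h '' W V := by
    by_contra hcon
    push Not at hcon
    obtain ⟨t, ht, -⟩ := c.avg.iInter_image hA W hWc hWi (Set.mem_iInter.2 hcon)
    obtain ⟨C, v, hv, hmem, -⟩ := AlgebraicGeometry.Scheme.exists_affine_mem_range_and_range_subset
      (U := (⊤ : Z.Opens)) (x := ψ (c.ι t)) trivial
    haveI := hv
    exact Set.mem_iInter.1 ht ⟨v.opensRange, isAffineOpen_opensRange v⟩ hmem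
  have hcl : IsClosed (Spec.map c.h '' W V) := c.avg.isClosed_image hA (hWc V) (hWi V)
  obtain ⟨R', f', hf', ⟨b', hb'⟩, hsub⟩ := AlgebraicGeometry.Scheme.exists_affine_mem_range_and_range_subset
    (U := (⟨_, hcl.isOpen_compl⟩ : (Spec R).Opens)) (x := b) hV
  haveI := hf'
  obtain ⟨c'⟩ := H.chart (f' ≫ f)
  letI := c'.algk
  letI := c'.h.hom.toAlgebra
  have hin : Set.range (c'.ι ≫ ψ) ⊆ Set.range V.2.fromSpec := by
    rw [V.2.range_fromSpec]
    rintro _ ⟨t', rfl⟩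
    by_contra hout
    have hw : φ (c'.ι t') = f (f' (Spec.map c'.h t')) := c'.comm t'
    obtain ⟨t, ht, htb⟩ := c.exists_point _ _ hw
    refine hsub ⟨Spec.map c'.h t', rfl⟩ ⟨t, fun h => hout ?_, htb⟩
    show ψ (c'.ι t') ∈ V.1
    rw [← ht]
    exact h
  obtain ⟨l, hl⟩ : ∃ l, Spec.map l = IsOpenImmersion.lift V.2.fromSpec (c'.ι ≫ ψ) hin := ⟨_, Spec.map_preimage _⟩
  have hlinv : ∀ x, c'.d (l x) = inR (k := k) (A := A) c'.T (l x) := by
    have h1 : Spec.map (CommRingCat.ofHom c'.d) ≫ Spec.map l =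
        Spec.map (CommRingCat.ofHom (inR (k := k) (A := A) c'.T).toRingHom) ≫ Spec.map l := by
      rw [← cancel_mono V.2.fromSpec, Category.assoc, Category.assoc, hl, IsOpenImmersion.lift_fac,
        ← reassoc_of% c'.κσ, hψ, reassoc_of% c'.κp]
    rw [← Spec.map_comp, ← Spec.map_comp] at h1
    exact fun x => congrArg (fun g => g.hom x) (Spec.map_injective h1)
  have hfac : ∀ x, c'.h (c'.avg.E (l x)) = l x := fun x => c'.avg.eq_of_invariant (hlinv x)
  let l' : Γ(Z, V.1) ⟶ R' := CommRingCat.ofHom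
    { toFun := fun x => c'.avg.E (l x)
      map_one' := c'.avg.injective ((hfac 1).trans ((map_one l.hom).trans (map_one c'.h.hom).symm))
      map_mul' := fun x y => c'.avg.injective ((hfac (x * y)).trans ((map_mul l.hom x y).trans
        ((congrArg₂ (· * ·) (hfac x).symm (hfac y).symm).trans (map_mul c'.h.hom _ _).symm)))
      map_zero' := c'.avg.injective ((hfac 0).trans ((map_zero l.hom).trans (map_zero c'.h.hom).symm))
      map_add' := fun x y => c'.avg.injective ((hfac (x + y)).trans ((map_add l.hom x y).trans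
        ((congrArg₂ (· + ·) (hfac x).symm (hfac y).symm).trans (map_add c'.h.hom _ _).symm))) }
  refine ⟨R', f' ≫ f, inferInstance, Spec.map l' ≫ V.2.fromSpec, ⟨b', ?_⟩, ?_⟩
  · rw [Scheme.Hom.comp_apply, hb']
  · rw [← cancel_epi c'.sq.isoPullback.hom, c'.sq.isoPullback_hom_fst_assoc, c'.sq.isoPullback_hom_snd_assoc,
      ← Category.assoc, ← Spec.map_comp, show l' ≫ c'.h = l from CommRingCat.hom_ext (RingHom.ext hfac), hl,
      IsOpenImmersion.lift_fac]

include hA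

theorem IsAvgQuot.existsUnique_desc {Z : Scheme.{u}} (ψ : X ⟶ Z) (hψ : σ ≫ ψ = p ≫ ψ) :
    ∃! χ : Y ⟶ Z, φ ≫ χ = ψ := by
  choose B j hj χ hy hχ using H.exists_local hA ψ hψ
  let 𝒰 : Y.OpenCover :=
    { I₀ := Y, X := fun y => Spec (B y), f := j,
      mem₀ := by
        rw [Scheme.presieve₀_mem_precoverage_iff]
        exact ⟨fun y => ⟨y, hy y⟩, hj⟩ }
  have hcompat : ∀ y y', pullback.fst (𝒰.f y) (𝒰.f y') ≫ χ y = pullback.snd _ _ ≫ χ y' := fun y y' => by
    haveI : IsOpenImmersion (𝒰.f y) := hj y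
    haveI : IsOpenImmersion (𝒰.f y') := hj y'
    refine H.hom_ext (pullback.fst (𝒰.f y) (𝒰.f y') ≫ 𝒰.f y) ?_
    have w1 : pullback.fst φ (pullback.fst (𝒰.f y) (𝒰.f y') ≫ 𝒰.f y) ≫ φ =
        (pullback.snd φ _ ≫ pullback.fst (𝒰.f y) (𝒰.f y')) ≫ j y :=
      pullback.condition.trans (Category.assoc _ _ _).symm
    have w2 : pullback.fst φ (pullback.fst (𝒰.f y) (𝒰.f y') ≫ 𝒰.f y) ≫ φ =
        (pullback.snd φ _ ≫ pullback.snd (𝒰.f y) (𝒰.f y')) ≫ j y' :=
      pullback.condition.trans ((congrArg (pullback.snd φ _ ≫ ·)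
        (pullback.condition (f := 𝒰.f y) (g := 𝒰.f y'))).trans (Category.assoc _ _ _).symm)
    have e1 : pullback.fst φ (pullback.fst (𝒰.f y) (𝒰.f y') ≫ 𝒰.f y) ≫ ψ =
        (pullback.snd φ _ ≫ pullback.fst (𝒰.f y) (𝒰.f y')) ≫ χ y := by
      have := congrArg (pullback.lift _ _ w1 ≫ ·) (hχ y)
      simpa only [pullback.lift_fst_assoc, pullback.lift_snd_assoc] using this
    have e2 : pullback.fst φ (pullback.fst (𝒰.f y) (𝒰.f y') ≫ 𝒰.f y) ≫ ψ =
        (pullback.snd φ _ ≫ pullback.snd (𝒰.f y) (𝒰.f y')) ≫ χ y' := by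
      have := congrArg (pullback.lift _ _ w2 ≫ ·) (hχ y')
      simpa only [pullback.lift_fst_assoc, pullback.lift_snd_assoc] using this
    rw [← Category.assoc, ← Category.assoc, ← e1, ← e2]
  have hfac : φ ≫ 𝒰.glueMorphisms χ hcompat = ψ := by
    refine Scheme.Cover.hom_ext (𝒰.pullback₁ φ) _ _ fun y => ?_
    show pullback.fst φ (𝒰.f y) ≫ φ ≫ _ = pullback.fst φ (𝒰.f y) ≫ ψ
    rw [pullback.condition_assoc, Scheme.Cover.ι_glueMorphisms]
    exact (hχ y).symm
  refine ⟨_, hfac, fun χ' hχ' => ?_⟩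
  refine H.hom_ext (𝟙 Y) ?_
  rw [show pullback.snd φ (𝟙 Y) = pullback.fst φ (𝟙 Y) ≫ φ by rw [pullback.condition, Category.comp_id],
    Category.assoc, Category.assoc, hfac, hχ']

end

end

end Groth.Agent.H60.AffQuot
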