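import Groth.Agent.H60.AffQuot.Action
import Groth.Agent.H60.AffQuot.Descend

/-!
Every base change of the map to the spectrum of the invariants has averaging operators over affine opens.
-/

set_option autoImplicit false

universe u

open CategoryTheory CategoryTheory.Limits MonoidalCategory CartesianMonoidalCategory MonObj AlgebraicGeometry
  TensorProduct CoactBr

namespace Groth.Agent.H60.AffQuot

noncomputable section

variable {k : Type u} [Field k] {A : Type u} [CommRing A] [HopfAlgebra k A]
  {G X : Over (Spec (CommRingCat.of k))} [GrpObj G] (e : G ≅ sp k A) [IsMonHom e.hom]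
  {R : Type u} [CommRing R] [Algebra k R] (eX : X ≅ sp k R) (a : AlgGrp.Action G X)

/-- The map to the spectrum of the invariants. -/
def quotMap : X ⟶ sp k (inv₀ e eX a) := eX.hom ≫ pt (inv₀ e eX a).val

theorem quotMap_invariant : a.act ≫ quotMap e eX a = snd G X ≫ quotMap e eX a := by
  rw [← cancel_epi (prodPt e eX), quotMap, ← reassoc_of% (pt_coact e eX a), ← pt_comp]
  have h : prodPt e eX ≫ snd G X ≫ eX.hom = pt Algebra.TensorProduct.includeRight := by
    rw [prodPt, lift_snd_assoc, xPt, Category.assoc, Iso.inv_hom_id, Category.comp_id]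
  rw [reassoc_of% h, ← pt_comp]
  exact congrArg pt (AlgHom.ext fun c => c.2)

section Chart

variable (α : A →ₗ[k] k) (h1 : α 1 = 1) (hα : ∀ b, α b ⊗ₜ[k] (1 : A) = α.rTensor A (CoalgebraStruct.comul b))
variable (B : Type u) [CommRing B] [Algebra (inv₀ e eX a) B]

local notation "R₀" => inv₀ e eX a
local notation "T" => R ⊗[inv₀ e eX a] B

/-- The coaction on the functions of a base change. -/
def coactBC : T →+* A ⊗[k] T :=
  letI : Algebra R₀ (A ⊗[k] T) := ((inR (k := k) (A := A) T).toRingHom.comp (algebraMap R₀ T)).toAlgebra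
  (Algebra.TensorProduct.lift
    ({ ((Algebra.TensorProduct.map (AlgHom.id k A) (Algebra.TensorProduct.includeLeft : R →ₐ[k] T)).comp
          (coact e eX a)).toRingHom with
        commutes' := fun c => by
          show Algebra.TensorProduct.map (AlgHom.id k A) _ (coact e eX a (c : R)) = _
          rw [show coact e eX a (c : R) = (1 : A) ⊗ₜ[k] (c : R) from c.2]
          rfl } : R →ₐ[R₀] A ⊗[k] T)
    ({ (inR (k := k) (A := A) T).toRingHom.comp
          (Algebra.TensorProduct.includeRight : B →ₐ[R₀] T).toRingHom with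
        commutes' := fun c => by
          show inR (k := k) (A := A) T ((Algebra.TensorProduct.includeRight : B →ₐ[R₀] T) (algebraMap R₀ B c)) = _
          rw [AlgHom.commutes]
          rfl } : B →ₐ[R₀] A ⊗[k] T)
    fun x y => Commute.all (S := A ⊗[k] T) _ _).toRingHom

theorem coactBC_tmul (r : R) (b : B) :
    coactBC e eX a B (r ⊗ₜ b) =
      Algebra.TensorProduct.map (AlgHom.id k A) (Algebra.TensorProduct.includeLeft : R →ₐ[k] T) (coact e eX a r) *
        inR (k := k) (A := A) T ((1 : R) ⊗ₜ b) := by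
  letI : Algebra R₀ (A ⊗[k] T) := ((inR (k := k) (A := A) T).toRingHom.comp (algebraMap R₀ T)).toAlgebra
  rfl

theorem coactBC_left (r : R) :
    coactBC e eX a B (Algebra.TensorProduct.includeLeftRingHom r) =
      Algebra.TensorProduct.map (AlgHom.id k A) (Algebra.TensorProduct.includeLeft : R →ₐ[k] T) (coact e eX a r) := by
  show coactBC e eX a B (r ⊗ₜ 1) = _
  rw [coactBC_tmul, ← Algebra.TensorProduct.one_def, map_one, _root_.mul_one]

theorem coactBC_right (b : B) :
    coactBC e eX a B ((1 : R) ⊗ₜ b) = inR (k := k) (A := A) T ((1 : R) ⊗ₜ b) := by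
  rw [coactBC_tmul, map_one, map_one, _root_.one_mul]

/-- The averaging operator of a base change. -/
def avgBC : @Avg k _ A _ _ α T _ _ B _ (Algebra.TensorProduct.includeRight : B →ₐ[R₀] T).toRingHom.toAlgebra
    (coactBC e eX a B) :=
  letI : Algebra B T := (Algebra.TensorProduct.includeRight : B →ₐ[R₀] T).toRingHom.toAlgebra
  { one := h1
    E := ((TensorProduct.lid R₀ B).toLinearMap ∘ₗ (average e eX a α hα).rTensor B).toAddMonoidHom
    E_mul := fun b t => by
      induction t using TensorProduct.induction_on with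
      | zero => simp
      | add p q hp hq => rw [mul_add, map_add, map_add, hp, hq, mul_add]
      | tmul r b' =>
        show (TensorProduct.lid R₀ B) ((average e eX a α hα).rTensor B (((1 : R) ⊗ₜ b) * (r ⊗ₜ b'))) = _
        rw [Algebra.TensorProduct.tmul_mul_tmul, _root_.one_mul]
        simp [mul_comm b, Algebra.smul_mul_assoc]
    E_one := by
      show (TensorProduct.lid R₀ B) ((average e eX a α hα).rTensor B ((1 : R) ⊗ₜ (1 : B))) = 1
      simp [average_one e eX a α h1 hα]
    alg := fun t => by
      induction t using TensorProduct.induction_on with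
      | zero => simp
      | add p q hp hq => rw [map_add, map_add, map_add, map_add, hp, hq]
      | tmul r b =>
        show (1 : R) ⊗ₜ[R₀] (TensorProduct.lid R₀ B ((average e eX a α hα).rTensor B (r ⊗ₜ b))) = _
        rw [LinearMap.rTensor_tmul, TensorProduct.lid_tmul, coactBC_tmul, ctr_mul_inR, ← ctr_natural]
        show _ = (ctr α R (coact e eX a r) ⊗ₜ[R₀] (1 : B)) * ((1 : R) ⊗ₜ b)
        rw [Algebra.TensorProduct.tmul_mul_tmul, _root_.mul_one, _root_.one_mul, TensorProduct.tmul_smul,
          TensorProduct.smul_tmul']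
        congr 1
        exact _root_.mul_one _ }

end Chart

section Quot

variable (α : A →ₗ[k] k) (h1 : α 1 = 1) (hα : ∀ b, α b ⊗ₜ[k] (1 : A) = α.rTensor A (CoalgebraStruct.comul b))
variable {X' : Over (Spec (CommRingCat.of k))} (pr : X' ⟶ X) {Y' : Scheme.{u}} (f' : X'.left ⟶ Y')
  (g : Y' ⟶ (sp k (inv₀ e eX a)).left) (σ : (G ⊗ X').left ⟶ X'.left)

include h1 hα in
theorem isAvgQuot (hpb : IsPullback pr.left f' (quotMap e eX a).left g)
    (hσ₁ : σ ≫ pr.left = ((G ◁ pr) ≫ a.act).left) (hσ₂ : σ ≫ f' = (snd G X').left ≫ f') :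
    IsAvgQuot α σ (snd G X').left f' where
  inv := hσ₂
  chart := fun B j hj => by
    obtain ⟨γ, hγ⟩ : ∃ γ, Spec.map γ = j ≫ g := ⟨_, Spec.map_preimage _⟩
    letI : Algebra (inv₀ e eX a) B := γ.hom.toAlgebra
    let inL : R →ₐ[k] R ⊗[inv₀ e eX a] B := Algebra.TensorProduct.includeLeft
    let inB : B ⟶ CommRingCat.of (R ⊗[inv₀ e eX a] B) :=
      CommRingCat.ofHom (Algebra.TensorProduct.includeRight : B →ₐ[inv₀ e eX a] R ⊗[inv₀ e eX a] B).toRingHom
    have hsq : IsPullback (Spec.map (CommRingCat.ofHom inL.toRingHom)) (Spec.map inB) (Spec.map (CommRingCat.ofHom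
        (algebraMap (inv₀ e eX a) R))) (Spec.map γ) :=
      isPullback_SpecMap_of_isPushout _ _ _ _ (CommRingCat.isPushout_tensorProduct (inv₀ e eX a) R B)
    let il : Spec (CommRingCat.of R) ⟶ X.left := eX.inv.left
    have heX : il ≫ eX.hom.left = 𝟙 _ := congrArg CommaMorphism.left eX.inv_hom_id
    haveI : IsIso il := inferInstanceAs (IsIso ((Over.forget _).map eX.inv))
    have hφ : il ≫ (quotMap e eX a).left = Spec.map (CommRingCat.ofHom (algebraMap (inv₀ e eX a) R)) := by
      show il ≫ eX.hom.left ≫ Spec.map (CommRingCat.ofHom (algebraMap (inv₀ e eX a) R)) = _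
      rw [reassoc_of% heX]
      exact Category.id_comp _
    have hsq' : IsPullback (Spec.map (CommRingCat.ofHom inL.toRingHom) ≫ il) (Spec.map inB)
        (quotMap e eX a).left (Spec.map γ) := by
      refine IsPullback.of_iso hsq (Iso.refl _) (asIso il) (Iso.refl _) (Iso.refl _) ?_ ?_ ?_ ?_
      · simp
      · simp
      · exact (Category.comp_id _).trans hφ.symm
      · exact (Category.comp_id _).trans (Category.id_comp _).symm
    rw [hγ] at hsq'
    let q : Spec (CommRingCat.of (R ⊗[inv₀ e eX a] B)) ⟶ X'.left :=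
      hpb.lift (Spec.map (CommRingCat.ofHom inL.toRingHom) ≫ il) (Spec.map inB ≫ j)
        (by rw [hsq'.w, Category.assoc])
    have hq1 : q ≫ pr.left = Spec.map (CommRingCat.ofHom inL.toRingHom) ≫ il := hpb.lift_fst _ _ _
    have hq2 : q ≫ f' = Spec.map inB ≫ j := hpb.lift_snd _ _ _
    have hsqι : IsPullback q (Spec.map inB) f' j := by
      refine IsPullback.of_right ?_ hq2 hpb
      rw [hq1]
      exact hsq'
    let ιO : sp k (R ⊗[inv₀ e eX a] B) ⟶ X' := Over.homMk q (by
      show q ≫ X'.hom = _
      rw [← Over.w pr, reassoc_of% hq1]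
      exact (congrArg (Spec.map (CommRingCat.ofHom inL.toRingHom) ≫ ·) (Over.w eX.inv)).trans (Over.w (pt inL)))
    have hqO : ιO ≫ pr = xPt eX inL := by
      ext1
      exact hq1
    let κ : Spec (CommRingCat.of (A ⊗[k] (R ⊗[inv₀ e eX a] B))) ⟶ (G ⊗ X').left :=
      (lift (gPt e Algebra.TensorProduct.includeLeft)
        (pt (inR (k := k) (A := A) (R ⊗[inv₀ e eX a] B)) ≫ ιO)).left
    have hκp : κ ≫ (snd G X').left =
        Spec.map (CommRingCat.ofHom (inR (k := k) (A := A) (R ⊗[inv₀ e eX a] B)).toRingHom) ≫ q := by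
      exact (Over.comp_left (f := _) (g := snd G X')).symm.trans ((congrArg (fun m => Over.Hom.left m) (lift_snd _ _)).trans rfl)
    refine ⟨{
      T := CommRingCat.of (R ⊗[inv₀ e eX a] B)
      algk := inferInstanceAs (Algebra k (R ⊗[inv₀ e eX a] B))
      h := inB
      d := coactBC e eX a B
      avg := avgBC e eX a α h1 hα B
      «ι» := q
      sq := hsqι
      κ := κ
      κσ := ?_
      κp := hκp }⟩
    apply hpb.hom_ext
    · have h : lift (gPt e Algebra.TensorProduct.includeLeft)
          (pt (inR (k := k) (A := A) (R ⊗[inv₀ e eX a] B)) ≫ ιO) ≫ (G ◁ pr) ≫ a.act =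
          pt ((Algebra.TensorProduct.map (AlgHom.id k A) inL).comp (coact e eX a)) ≫ eX.inv := by
        rw [lift_whiskerLeft_assoc, Category.assoc, hqO, pt_xPt, act_rule]
        refine congrArg (fun ψ => pt ψ ≫ eX.inv) (congrArg (fun ψ => AlgHom.comp ψ (coact e eX a)) ?_)
        ext x <;> simp [inL]
      have h' : κ ≫ ((G ◁ pr) ≫ a.act).left =
          Spec.map (CommRingCat.ofHom ((Algebra.TensorProduct.map (AlgHom.id k A) inL).comp (coact e eX a)).toRingHom)
            ≫ il := congrArg CommaMorphism.left h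
      rw [Category.assoc, hσ₁, h', Category.assoc, hq1, ← Category.assoc (Spec.map _), ← Spec.map_comp,
        ← CommRingCat.ofHom_comp]
      congr 3
      exact RingHom.ext fun r => (coactBC_left e eX a B r).symm
    · rw [Category.assoc, hσ₂, reassoc_of% hκp, Category.assoc, hq2, ← Category.assoc, ← Category.assoc,
        ← Spec.map_comp, ← Spec.map_comp]
      congr 2
      ext b
      exact (coactBC_right e eX a B b).symm

end Quot

end

end Groth.Agent.H60.AffQuot
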