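import Groth.Agent.H60.AffQuot.Action
import Groth.Agent.S16801

/-!
The invariants of an action of a linearly reductive group on an algebra of finite type are of finite type.
-/

set_option autoImplicit false

universe u

open CategoryTheory MonoidalCategory CartesianMonoidalCategory MonObj AlgebraicGeometry TensorProduct CoactBr

namespace Groth.Agent.H60.AffQuot

noncomputable section

variable {k : Type u} [Field k] {A : Type u} [CommRing A] [HopfAlgebra k A]

theorem antipode_comp_antipode :
    (HopfAlgebra.antipodeAlgHom k A).comp (HopfAlgebra.antipodeAlgHom k A) = AlgHom.id k A := by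
  refine pt_injective ?_
  have h := pt_inv (HopfAlgebra.antipodeAlgHom k A)
  have h' := pt_inv (AlgHom.id k A)
  rw [AlgHom.id_comp] at h'
  rw [← h, ← h', inv_inv]

variable {G X : Over (Spec (CommRingCat.of k))} [GrpObj G] (e : G ≅ sp k A) [IsMonHom e.hom]
  {R : Type u} [CommRing R] [Algebra k R] (eX : X ≅ sp k R) (a : AlgGrp.Action G X)

theorem gPt_inv {T : Type u} [CommRing T] [Algebra k T] (g : A →ₐ[k] T) :
    (gPt e g)⁻¹ = gPt e (g.comp (HopfAlgebra.antipodeAlgHom k A)) := by
  haveI : IsMonHom e.inv := inferInstance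
  rw [gPt, gPt, ← GrpObj.inv_comp, pt_inv]

/-- The right coaction of the inverse elements. -/
def rcoact : R →ₐ[k] R ⊗[k] A :=
  (Algebra.TensorProduct.lift ((Algebra.TensorProduct.includeRight : A →ₐ[k] R ⊗[k] A).comp
    (HopfAlgebra.antipodeAlgHom k A)) Algebra.TensorProduct.includeLeft fun _ _ => .all _ _).comp (coact e eX a)

theorem xPt_rcoact :
    xPt eX (rcoact e eX a) = lift (gPt e (Algebra.TensorProduct.includeRight : A →ₐ[k] R ⊗[k] A))⁻¹
      (xPt eX Algebra.TensorProduct.includeLeft) ≫ a.act := by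
  rw [gPt_inv, act_rule]
  rfl

theorem rcoact_counit :
    (Algebra.TensorProduct.map (AlgHom.id k R) (Bialgebra.counitAlgHom k A)).comp (rcoact e eX a) =
      Algebra.TensorProduct.includeLeft := by
  refine xPt_injective eX ?_
  rw [← pt_xPt, xPt_rcoact, comp_lift_assoc, GrpObj.comp_inv, pt_gPt, pt_xPt,
    Algebra.TensorProduct.map_comp_includeLeft, Algebra.TensorProduct.map_comp_includeRight]
  have h : (Algebra.TensorProduct.includeRight : k →ₐ[k] R ⊗[k] k).comp (Bialgebra.counitAlgHom k A) =
      (Algebra.ofId k (R ⊗[k] k)).comp (Bialgebra.counitAlgHom k A) :=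
    congrArg (fun f => AlgHom.comp f (Bialgebra.counitAlgHom k A)) (Subsingleton.elim _ _)
  rw [h, gPt_one, inv_one, lift_one_act]
  rfl

theorem rcoact_coassoc :
    (Algebra.TensorProduct.assoc k k k R A A).toAlgHom.comp
        ((Algebra.TensorProduct.map (rcoact e eX a) (AlgHom.id k A)).comp (rcoact e eX a)) =
      (Algebra.TensorProduct.map (AlgHom.id k R) (Bialgebra.comulAlgHom k A)).comp (rcoact e eX a) := by
  let x : R →ₐ[k] R ⊗[k] (A ⊗[k] A) := Algebra.TensorProduct.includeLeft
  let g : A →ₐ[k] R ⊗[k] (A ⊗[k] A) :=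
    (Algebra.TensorProduct.includeRight : A ⊗[k] A →ₐ[k] R ⊗[k] (A ⊗[k] A)).comp Algebra.TensorProduct.includeLeft
  let h : A →ₐ[k] R ⊗[k] (A ⊗[k] A) :=
    (Algebra.TensorProduct.includeRight : A ⊗[k] A →ₐ[k] R ⊗[k] (A ⊗[k] A)).comp Algebra.TensorProduct.includeRight
  have hψ : (Algebra.TensorProduct.assoc k k k R A A).toAlgHom.comp
      ((Algebra.TensorProduct.map (rcoact e eX a) (AlgHom.id k A)).comp Algebra.TensorProduct.includeLeft) =
      (Algebra.TensorProduct.lift x g fun _ _ => .all _ _).comp (rcoact e eX a) := by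
    refine AlgHom.ext fun r => ?_
    show Algebra.TensorProduct.assoc k k k R A A (rcoact e eX a r ⊗ₜ[k] (1 : A)) =
      (Algebra.TensorProduct.lift x g fun _ _ => .all _ _) (rcoact e eX a r)
    generalize rcoact e eX a r = z
    induction z using TensorProduct.induction_on with
    | zero => simp
    | add p q hp hq => simp only [TensorProduct.add_tmul, map_add, hp, hq]
    | tmul s b => simp [x, g]
  have hh : (Algebra.TensorProduct.assoc k k k R A A).toAlgHom.comp
      ((Algebra.TensorProduct.map (rcoact e eX a) (AlgHom.id k A)).comp Algebra.TensorProduct.includeRight) = h := by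
    refine AlgHom.ext fun b => ?_
    show Algebra.TensorProduct.assoc k k k R A A (rcoact e eX a 1 ⊗ₜ[k] b) = _
    rw [map_one, Algebra.TensorProduct.one_def]
    rfl
  have hΔ : (Algebra.TensorProduct.map (AlgHom.id k R) (Bialgebra.comulAlgHom k A)).comp
      Algebra.TensorProduct.includeRight =
      (Algebra.TensorProduct.lift g h fun _ _ => .all _ _).comp (Bialgebra.comulAlgHom k A) := by
    refine AlgHom.ext fun b => ?_
    show (1 : R) ⊗ₜ[k] Bialgebra.comulAlgHom k A b = (Algebra.TensorProduct.lift g h fun _ _ => .all _ _) (Bialgebra.comulAlgHom k A b)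
    generalize Bialgebra.comulAlgHom k A b = z
    induction z using TensorProduct.induction_on with
    | zero => simp
    | add p q hp hq => simp only [TensorProduct.tmul_add, map_add, hp, hq]
    | tmul c d => simp [g, h]
  have hlx : (Algebra.TensorProduct.lift x g fun _ _ => .all _ _).comp Algebra.TensorProduct.includeLeft = x :=
    Algebra.TensorProduct.lift_comp_includeLeft _ _ _
  have hlg : (Algebra.TensorProduct.lift x g fun _ _ => .all _ _).comp Algebra.TensorProduct.includeRight = g :=
    Algebra.TensorProduct.lift_comp_includeRight' _ _ _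
  refine xPt_injective eX ?_
  rw [← AlgHom.comp_assoc, ← pt_xPt, ← pt_xPt, xPt_rcoact, comp_lift_assoc, comp_lift_assoc, GrpObj.comp_inv,
    GrpObj.comp_inv, pt_gPt, pt_gPt, pt_xPt, pt_xPt, AlgHom.comp_assoc, AlgHom.comp_assoc, hh, hψ, hΔ,
    Algebra.TensorProduct.map_comp_includeLeft, ← gPt_mul, ← pt_xPt, xPt_rcoact, comp_lift_assoc, GrpObj.comp_inv,
    pt_gPt, pt_xPt, hlx, hlg, mul_inv_rev, lift_mul_act]
  rfl

/-- The comodule of the inverse elements. -/
@[reducible] def rComod : HopfRep.Comod k A R where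
  coact := (rcoact e eX a).toLinearMap
  coassoc := LinearMap.ext fun r => AlgHom.congr_fun (rcoact_coassoc e eX a) r
  counit_comp := LinearMap.ext fun r => AlgHom.congr_fun (rcoact_counit e eX a) r

theorem rcoact_eq_iff (r : R) : rcoact e eX a r = r ⊗ₜ[k] (1 : A) ↔ r ∈ inv₀ e eX a := by
  rw [mem_inv₀]
  let ψ : A ⊗[k] R →ₐ[k] R ⊗[k] A := Algebra.TensorProduct.lift
    ((Algebra.TensorProduct.includeRight : A →ₐ[k] R ⊗[k] A).comp (HopfAlgebra.antipodeAlgHom k A))
    Algebra.TensorProduct.includeLeft fun _ _ => .all _ _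
  let χ : R ⊗[k] A →ₐ[k] A ⊗[k] R := Algebra.TensorProduct.lift
    (Algebra.TensorProduct.includeRight : R →ₐ[k] A ⊗[k] R)
    ((Algebra.TensorProduct.includeLeft : A →ₐ[k] A ⊗[k] R).comp (HopfAlgebra.antipodeAlgHom k A))
    fun _ _ => .all _ _
  have hχψ : ∀ z, χ (ψ z) = z := fun z => by
    induction z using TensorProduct.induction_on with
    | zero => simp
    | add p q hp hq => simp only [map_add, hp, hq]
    | tmul b s =>
      simp [χ, ψ]
      exact congrArg (· ⊗ₜ[k] s) (AlgHom.congr_fun antipode_comp_antipode b)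
  have h1 : ψ ((1 : A) ⊗ₜ[k] r) = r ⊗ₜ[k] (1 : A) := by simp [ψ]
  constructor
  · intro h
    have := congrArg χ (show ψ (coact e eX a r) = ψ ((1 : A) ⊗ₜ[k] r) from h.trans h1.symm)
    rwa [hχψ, hχψ] at this
  · intro h
    show ψ (coact e eX a r) = _
    rw [h, h1]

theorem finiteType_inv₀ [Algebra.FiniteType k A] (hLR : HopfRep.IsLinearlyReductive k A) [Algebra.FiniteType k R] :
    Algebra.FiniteType k (inv₀ e eX a) := by
  letI := rComod e eX a
  haveI : GLin.IsCoactAlg k A R := ⟨map_one (rcoact e eX a), map_mul (rcoact e eX a)⟩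
  letI : HopfRep.Comod k A k := HopfRep.Comod.trivial k A k
  haveI : GLin.IsCoactAlg k A k := ⟨rfl, fun f g => by
    show (f * g) ⊗ₜ[k] (1 : A) = (f ⊗ₜ[k] (1 : A)) * (g ⊗ₜ[k] (1 : A))
    rw [Algebra.TensorProduct.tmul_mul_tmul, _root_.mul_one]⟩
  obtain ⟨s, hs⟩ := Groth.Agent.S16801.result k A hLR k R (LinearMap.ext fun c => by
    show rcoact e eX a (algebraMap k R c) = (IsScalarTower.toAlgHom k k R).toLinearMap.rTensor A (c ⊗ₜ[k] (1 : A))
    rw [AlgHom.commutes, LinearMap.rTensor_tmul]
    rfl)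
  have hinv : GLin.invariants k A R = inv₀ e eX a := SetLike.ext fun r => rcoact_eq_iff e eX a r
  refine (Subalgebra.fg_iff_finiteType _).1 ⟨s, ?_⟩
  rw [← hinv, hs]
  refine le_antisymm (Algebra.adjoin_mono Set.subset_union_right) (Algebra.adjoin_le ?_)
  rintro x (⟨c, -, rfl⟩ | hx)
  · exact (Algebra.adjoin k (s : Set R)).algebraMap_mem c
  · exact Algebra.subset_adjoin hx

end

end Groth.Agent.H60.AffQuot
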