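import Groth.Agent.H60.AffQuot.Main
import Mathlib.AlgebraicGeometry.Morphisms.Separated
import Mathlib.AlgebraicGeometry.ResidueField
import Mathlib.FieldTheory.IsAlgClosed.AlgebraicClosure
import Mathlib.RingTheory.Polynomial.Basic

/-!
Geometric quotients of affine schemes and closed actions.
-/

set_option autoImplicit false

universe u

open CategoryTheory CategoryTheory.Limits MonoidalCategory CartesianMonoidalCategory MonObj AlgebraicGeometry
  TensorProduct CoactBr

namespace Groth.Agent.H60.AffQuot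

noncomputable section

variable {k : Type u} [Field k]

theorem IsAvgQuot.disjoint_image {A : Type u} [CommRing A] [Algebra k A] {α : A →ₗ[k] k} {GX X Y : Scheme.{u}}
    {σ p : GX ⟶ X} {φ : X ⟶ Y} (hA : Avg.GeomRed k A) (H : IsAvgQuot α σ p φ) {W₁ W₂ : Set X} (h₁ : IsClosed W₁)
    (h₂ : IsClosed W₂) (hs₁ : Stab σ p W₁) (hs₂ : Stab σ p W₂) (hd : Disjoint W₁ W₂) :
    Disjoint (φ '' W₁) (φ '' W₂) := by
  rw [Set.disjoint_left]
  intro y hy₁ hy₂
  obtain ⟨R, f, hf, ⟨b, rfl⟩, -⟩ :=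
    AlgebraicGeometry.Scheme.exists_affine_mem_range_and_range_subset (U := (⊤ : Y.Opens)) (x := y) trivial
  haveI := hf
  obtain ⟨c⟩ := H.chart f
  letI := c.algk
  letI := c.h.hom.toAlgebra
  let W : Bool → Set (Spec c.T) := fun i => bif i then c.ι ⁻¹' W₁ else c.ι ⁻¹' W₂
  have hWc : ∀ i, IsClosed (W i) := fun i => by
    cases i
    · exact h₂.preimage c.ι.continuous
    · exact h₁.preimage c.ι.continuous
  have hWi : ∀ i, Avg.InvSet c.d (W i) := fun i => by
    cases i
    · exact c.invSet hs₂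
    · exact c.invSet hs₁
  have hb : ∀ i, b ∈ Spec.map c.h '' W i := fun i => by
    cases i
    · show b ∈ Spec.map c.h '' (c.ι ⁻¹' W₂)
      rw [← c.preimage_image]; exact hy₂
    · show b ∈ Spec.map c.h '' (c.ι ⁻¹' W₁)
      rw [← c.preimage_image]; exact hy₁
  obtain ⟨t, ht, -⟩ := c.avg.iInter_image hA W hWc hWi (Set.mem_iInter.2 hb)
  exact Set.disjoint_left.1 hd (Set.mem_iInter.1 ht true) (Set.mem_iInter.1 ht false)

section Sections

/-- The affine line over the integers. -/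
abbrev Line : Scheme.{u} := Spec (CommRingCat.of (Polynomial (ULift.{u} ℤ)))

/-- The coordinate of the affine line. -/
def coord : Γ(Line.{u}, ⊤) := (Scheme.ΓSpecIso (CommRingCat.of (Polynomial (ULift.{u} ℤ)))).inv Polynomial.X

/-- The coordinate of a morphism to the line. -/
def coordOf {W : Scheme.{u}} (χ : W ⟶ Line.{u}) : Γ(W, ⊤) := χ.appTop coord

theorem coordOf_injective {W : Scheme.{u}} : Function.Injective (coordOf : (W ⟶ Line.{u}) → _) := fun χ χ' h => by
  refine ext_of_isAffine ?_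
  rw [← cancel_epi (Scheme.ΓSpecIso (CommRingCat.of (Polynomial (ULift.{u} ℤ)))).inv]
  refine CommRingCat.hom_ext (Polynomial.ringHom_ext (fun a => ?_) h)
  obtain ⟨n, rfl⟩ : ∃ n : ℤ, (n : ULift.{u} ℤ) = a := ⟨a.down, by ext; simp⟩
  rw [map_intCast, map_intCast, map_intCast]

theorem coordOf_comp {W W' : Scheme.{u}} (f : W' ⟶ W) (χ : W ⟶ Line.{u}) :
    coordOf (f ≫ χ) = f.appTop (coordOf χ) := rfl

theorem exists_coordOf {W : Scheme.{u}} (s : Γ(W, ⊤)) : ∃ χ : W ⟶ Line.{u}, coordOf χ = s := by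
  refine ⟨W.toSpecΓ ≫ Spec.map (CommRingCat.ofHom
    (Polynomial.eval₂RingHom ((Int.castRingHom _).comp ULift.ringEquiv.toRingHom) s)), ?_⟩
  have h : (Spec.map (CommRingCat.ofHom
      (Polynomial.eval₂RingHom ((Int.castRingHom _).comp ULift.ringEquiv.toRingHom) s))).appTop coord =
      (Scheme.ΓSpecIso Γ(W, ⊤)).inv s := by
    rw [coord]
    erw [← CommRingCat.comp_apply, ← Scheme.ΓSpecIso_inv_naturality, CommRingCat.comp_apply]
    simp
    rfl
  rw [coordOf_comp, coordOf, h, Scheme.toSpecΓ_appTop, ← CommRingCat.comp_apply, Iso.inv_hom_id]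
  rfl

theorem appLE_congr {W W' : Scheme.{u}} {f g : W' ⟶ W} (h : f = g) (U : W.Opens) (V : W'.Opens) (e : V ≤ f ⁻¹ᵁ U)
    (e' : V ≤ g ⁻¹ᵁ U) : f.appLE U V e = g.appLE U V e' := by
  subst h; rfl

/-- The restriction of sections to an open subscheme. -/
def res {W : Scheme.{u}} (U : W.Opens) (s : Γ(W, U)) : Γ(U.toScheme, ⊤) :=
  U.ι.appLE U ⊤ U.ι_preimage_self.ge s

theorem res_bijective {W : Scheme.{u}} (U : W.Opens) : Function.Bijective (res U) :=
  ConcreteCategory.bijective_of_isIso (U.ι.appLE U ⊤ U.ι_preimage_self.ge)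

variable {W Z : Scheme.{u}} (φ : W ⟶ Z) (U : Z.Opens)

theorem appTop_res (s : Γ(Z, U)) : (φ ∣_ U).appTop (res U s) = res (φ ⁻¹ᵁ U) (φ.app U s) := by
  have h : U.ι.appLE U ⊤ U.ι_preimage_self.ge ≫ (φ ∣_ U).appTop =
      φ.app U ≫ (φ ⁻¹ᵁ U).ι.appLE (φ ⁻¹ᵁ U) ⊤ (φ ⁻¹ᵁ U).ι_preimage_self.ge := by
    rw [show (φ ∣_ U).appTop = (φ ∣_ U).appLE ⊤ ⊤ le_rfl from (φ ∣_ U).app_eq_appLE, φ.app_eq_appLE,
      Scheme.Hom.appLE_comp_appLE, Scheme.Hom.appLE_comp_appLE]
    exact appLE_congr (morphismRestrict_ι φ U) _ _ _ _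
  exact congrArg (fun m => m.hom s) h

theorem app_injective (hinj : ∀ {O : Scheme.{u}} (χ χ' : U.toScheme ⟶ O),
    (φ ∣_ U) ≫ χ = (φ ∣_ U) ≫ χ' → χ = χ') : Function.Injective (φ.app U) := by
  intro s t h
  obtain ⟨χ, hχ⟩ := exists_coordOf (res U s)
  obtain ⟨χ', hχ'⟩ := exists_coordOf (res U t)
  refine (res_bijective U).1 ?_
  rw [← hχ, ← hχ', hinj χ χ' (coordOf_injective ?_)]
  rw [coordOf_comp, coordOf_comp, hχ, hχ', appTop_res, appTop_res, h]

end Sections

variable {G X Y : Over (Spec (CommRingCat.of k))} [GrpObj G] {a : AlgGrp.Action G X}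

theorem range_app {X' Y' : Over (Spec (CommRingCat.of k))} (a' : AlgGrp.Action G X') (φ' : X' ⟶ Y')
    (hinv : GIT.IsInvariant a' φ') (U : Y'.left.Opens)
    (hinj : ∀ {O : Scheme.{u}} (χ χ' : U.toScheme ⟶ O), (φ'.left ∣_ U) ≫ χ = (φ'.left ∣_ U) ≫ χ' → χ = χ')
    (σ : (G ⊗ Over.mk ((φ'.left ⁻¹ᵁ U).ι ≫ X'.hom)).left ⟶ (φ'.left ⁻¹ᵁ U).toScheme)
    (hσ : σ ≫ (φ'.left ⁻¹ᵁ U).ι =
      ((G ◁ (Over.homMk (φ'.left ⁻¹ᵁ U).ι rfl : Over.mk ((φ'.left ⁻¹ᵁ U).ι ≫ X'.hom) ⟶ X')) ≫ a'.act).left)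
    (hdesc : ∀ {O : Scheme.{u}} (ψ : (φ'.left ⁻¹ᵁ U).toScheme ⟶ O),
      σ ≫ ψ = (snd G (Over.mk ((φ'.left ⁻¹ᵁ U).ι ≫ X'.hom))).left ≫ ψ → ∃! χ, (φ'.left ∣_ U) ≫ χ = ψ) :
    Set.range (φ'.left.app U) = {f | GIT.IsInvSection a' φ' U f} := by
  let V := φ'.left ⁻¹ᵁ U
  let io : Over.mk (V.ι ≫ X'.hom) ⟶ X' := Over.homMk V.ι rfl
  refine Set.Subset.antisymm ?_ fun f hf => ?_
  · rintro _ ⟨s, rfl⟩
    show GIT.IsInvSection a' φ' U _
    rw [GIT.IsInvSection, φ'.left.app_eq_appLE, ← CommRingCat.comp_apply, ← CommRingCat.comp_apply,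
      Scheme.Hom.appLE_comp_appLE, Scheme.Hom.appLE_comp_appLE,
      appLE_congr (GIT.IsInvariant.left hinv) U _ _ (by
        intro x hx
        exact hx.2)]
  · obtain ⟨ψ, hψ⟩ := exists_coordOf (res V f)
    have hsnd : (snd G (Over.mk (V.ι ≫ X'.hom))).left ≫ V.ι = (G ◁ io).left ≫ (snd G X').left := by
      rw [← Over.comp_left, whiskerLeft_snd]
      rfl
    have hσ' : σ ≫ V.ι = (G ◁ io).left ≫ a'.act.left := hσ.trans (Over.comp_left (f := G ◁ io) (g := a'.act))
    have hW : (⊤ : (G ⊗ Over.mk (V.ι ≫ X'.hom)).left.Opens) ≤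
        (G ◁ io).left ⁻¹ᵁ (a'.act.left ⁻¹ᵁ V ⊓ (snd G X').left ⁻¹ᵁ V) := by
      intro x _
      refine ⟨?_, ?_⟩
      · show a'.act.left ((G ◁ io).left x) ∈ V
        rw [← Scheme.Hom.comp_apply, ← hσ', Scheme.Hom.comp_apply]
        exact (σ x).2
      · show (snd G X').left ((G ◁ io).left x) ∈ V
        rw [← Scheme.Hom.comp_apply, ← hsnd, Scheme.Hom.comp_apply]
        exact ((snd G (Over.mk (V.ι ≫ X'.hom))).left x).2
    have hpull : ∀ (q : (G ⊗ Over.mk (V.ι ≫ X'.hom)).left ⟶ V.toScheme) (r : (G ⊗ X').left ⟶ X'.left)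
        (_ : q ≫ V.ι = (G ◁ io).left ≫ r) (hr : a'.act.left ⁻¹ᵁ V ⊓ (snd G X').left ⁻¹ᵁ V ≤ r ⁻¹ᵁ V),
        q.appTop (res V f) = (G ◁ io).left.appLE _ ⊤ hW (r.appLE V _ hr f) := by
      intro q r hqr hr
      rw [res, ← CommRingCat.comp_apply, ← CommRingCat.comp_apply, show q.appTop = q.appLE ⊤ ⊤ le_rfl from q.app_eq_appLE,
        Scheme.Hom.appLE_comp_appLE, Scheme.Hom.appLE_comp_appLE]
      exact RingHom.congr_fun (congrArg CommRingCat.Hom.hom (appLE_congr hqr V ⊤ _ _)) f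
    obtain ⟨χ, hχ, -⟩ := hdesc ψ (coordOf_injective (by
      rw [coordOf_comp, coordOf_comp, hψ]
      exact (hpull σ _ hσ' inf_le_left).trans ((congrArg _ hf).trans (hpull _ _ hsnd inf_le_right).symm)))
    obtain ⟨s, hs⟩ := (res_bijective U).2 (coordOf χ)
    refine ⟨s, (res_bijective V).1 ?_⟩
    rw [← appTop_res, hs, ← coordOf_comp, hχ, hψ]

/-- A geometric quotient with separated base has closed orbits. -/
theorem isClosedAction_of_isGeomQuot [IsSeparated Y.hom] {φ : X ⟶ Y} (h : GIT.IsGeomQuot a φ) :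
    GIT.IsClosedAction a := by
  intro Ω _ _ T _ f
  let s : T ⟶ Y := f ≫ φ
  let P : Over (Spec (CommRingCat.of k)) := Over.mk (pullback.fst φ.left s.left ≫ X.hom)
  let pX : P ⟶ X := Over.homMk (pullback.fst φ.left s.left) rfl
  let pT : P ⟶ T := Over.homMk (pullback.snd φ.left s.left) (by
    show pullback.snd φ.left s.left ≫ T.hom = pullback.fst φ.left s.left ≫ X.hom
    rw [← Over.w s, ← pullback.condition_assoc, Over.w])
  let j : P ⟶ X ⊗ T := lift pX pT
  haveI : IsClosedImmersion j.left := by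
    have : j.left = pullback.mapDesc φ.left s.left Y.hom ≫
        (pullback.congrHom (Over.w φ) (Over.w s)).hom := by
      refine pullback.hom_ext ?_ ?_
      · exact (congrArg CommaMorphism.left (lift_fst pX pT)).trans (by simp [pullback.mapDesc, pullback.map]; first | rfl | (erw [pullback.lift_fst, pullback.lift_fst]; rfl) | (erw [pullback.lift_snd, pullback.lift_snd]; rfl))
      · exact (congrArg CommaMorphism.left (lift_snd pX pT)).trans (by simp [pullback.mapDesc, pullback.map]; first | rfl | (erw [pullback.lift_fst, pullback.lift_fst]; rfl) | (erw [pullback.lift_snd, pullback.lift_snd]; rfl))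
    rw [this]
    infer_instance
  have hrange : Set.range (GIT.psi a f).left.base = Set.range j.left.base := by
    let ℓ : (G ⊗ T).left ⟶ P.left := pullback.lift ((G ◁ f) ≫ a.act).left (snd G T).left (by
      rw [← Over.comp_left, ← Over.comp_left, Category.assoc, h.inv, whiskerLeft_snd_assoc])
    have hℓ : ℓ ≫ j.left = (GIT.psi a f).left := by
      let ℓO : G ⊗ T ⟶ P := Over.homMk ℓ (by
        show ℓ ≫ pullback.fst _ _ ≫ X.hom = _
        rw [pullback.lift_fst_assoc, Over.w])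
      have : ℓO ≫ j = GIT.psi a f := by
        rw [GIT.psi, comp_lift]
        congr 1
        · exact Over.OverMorphism.ext (pullback.lift_fst _ _ _)
        · exact Over.OverMorphism.ext (pullback.lift_snd _ _ _)
      exact congrArg CommaMorphism.left this
    refine Set.Subset.antisymm ?_ ?_
    · rintro _ ⟨w, rfl⟩
      exact ⟨ℓ w, by rw [← Scheme.Hom.comp_apply, hℓ]⟩
    · rintro _ ⟨z, rfl⟩
      let m : P.left ⟶ pullback φ.left φ.left := pullback.lift (pullback.fst φ.left s.left)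
        (pullback.snd φ.left s.left ≫ f.left) (by rw [Category.assoc, ← Over.comp_left]; exact pullback.condition)
      obtain ⟨w, hw⟩ := h.orbit (m z)
      obtain ⟨q, hq1, hq2⟩ := Scheme.Pullback.exists_preimage_pullback (f := GIT.PsiY a φ h.inv) (g := m) w z hw
      let Q : Over (Spec (CommRingCat.of k)) := Over.mk (pullback.snd (GIT.PsiY a φ h.inv) m ≫ P.hom)
      let q₂ : Q ⟶ P := Over.homMk (pullback.snd (GIT.PsiY a φ h.inv) m) rfl
      let q₁l := pullback.fst (GIT.PsiY a φ h.inv) m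
      have p1 : q₁l ≫ a.act.left = q₂.left ≫ pX.left := by
        have := congrArg (fun t => t ≫ pullback.fst φ.left φ.left)
          (pullback.condition (f := GIT.PsiY a φ h.inv) (g := m))
        rw [Category.assoc, Category.assoc, show GIT.PsiY a φ h.inv ≫ pullback.fst φ.left φ.left = a.act.left from
          pullback.lift_fst _ _ _, show m ≫ pullback.fst φ.left φ.left = pX.left from pullback.lift_fst _ _ _] at this
        exact this
      have p2 : q₁l ≫ (snd G X).left = q₂.left ≫ pT.left ≫ f.left := by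
        have := congrArg (fun t => t ≫ pullback.snd φ.left φ.left)
          (pullback.condition (f := GIT.PsiY a φ h.inv) (g := m))
        rw [Category.assoc, Category.assoc, show GIT.PsiY a φ h.inv ≫ pullback.snd φ.left φ.left = (snd G X).left from
          pullback.lift_snd _ _ _, show m ≫ pullback.snd φ.left φ.left = pT.left ≫ f.left from
          pullback.lift_snd _ _ _] at this
        exact this
      let q₁ : Q ⟶ G ⊗ X := Over.homMk q₁l (by
        show q₁l ≫ (G ⊗ X).hom = q₂.left ≫ pX.left ≫ X.hom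
        rw [← Category.assoc q₂.left, ← p1, Category.assoc, Over.w])
      have e1 : q₁ ≫ a.act = q₂ ≫ pX := Over.OverMorphism.ext p1
      have e2 : q₁ ≫ snd G X = q₂ ≫ pT ≫ f := Over.OverMorphism.ext p2
      have e3 : lift (q₁ ≫ fst G X) (q₂ ≫ pT) ≫ GIT.psi a f = q₂ ≫ j := by
        rw [GIT.psi, comp_lift, comp_lift, lift_whiskerLeft_assoc, lift_snd, Category.assoc, ← e2,
          lift_comp_fst_snd, e1]
      refine ⟨(lift (q₁ ≫ fst G X) (q₂ ≫ pT)).left q, ?_⟩
      rw [← Scheme.Hom.comp_apply, ← Over.comp_left, e3, Over.comp_left, Scheme.Hom.comp_apply]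
      show j.left (pullback.snd _ m q) = _
      rw [hq2]
  rw [hrange]
  exact j.left.isClosedEmbedding.isClosed_range

namespace Data

variable (D : Data G X) (a)

theorem orbit_surjective (hc : GIT.IsClosedAction a) :
    Function.Surjective (GIT.PsiY a (D.φ a) (D.invariant a)).base := by
  intro z
  let P : Scheme.{u} := pullback (D.φ a).left (D.φ a).left
  let Ω := AlgebraicClosure (P.residueField z)
  let ω : Spec (CommRingCat.of Ω) ⟶ P :=
    Spec.map (CommRingCat.ofHom (algebraMap (P.residueField z) Ω)) ≫ P.fromSpecResidueField z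
  have hω : ∀ t, ω t = z := fun t => by
    rw [Scheme.Hom.comp_apply, Scheme.fromSpecResidueField_apply]
  let T : Over (Spec (CommRingCat.of k)) := Over.mk (ω ≫ pullback.fst _ _ ≫ X.hom)
  let x₁ : T ⟶ X := Over.homMk (ω ≫ pullback.fst _ _) (by simp [T])
  let x₂ : T ⟶ X := Over.homMk (ω ≫ pullback.snd _ _) (by
    show (ω ≫ pullback.snd _ _) ≫ X.hom = ω ≫ pullback.fst _ _ ≫ X.hom
    rw [Category.assoc, ← Over.w (D.φ a), pullback.condition_assoc])
  have hs : x₂ ≫ D.φ a = x₁ ≫ D.φ a := Over.OverMorphism.ext (by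
    show (ω ≫ pullback.snd _ _) ≫ (D.φ a).left = (ω ≫ pullback.fst _ _) ≫ (D.φ a).left
    exact (Category.assoc _ _ _).trans ((congrArg (ω ≫ ·) pullback.condition.symm).trans (Category.assoc _ _ _).symm))
  let X'' : Over (Spec (CommRingCat.of k)) := Over.mk (pullback.fst (D.φ a).left (x₁ ≫ D.φ a).left ≫ X.hom)
  let pr : X'' ⟶ X := Over.homMk (pullback.fst (D.φ a).left (x₁ ≫ D.φ a).left) rfl
  let f'' : X'' ⟶ T := Over.homMk (pullback.snd (D.φ a).left (x₁ ≫ D.φ a).left) (by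
    show pullback.snd _ _ ≫ T.hom = pullback.fst _ _ ≫ X.hom
    rw [← Over.w (x₁ ≫ D.φ a), ← pullback.condition_assoc, Over.w])
  have hpb : IsPullback pr.left f''.left (D.φ a).left (x₁ ≫ D.φ a).left := IsPullback.of_hasPullback _ _
  have hcomm : ((G ◁ pr) ≫ a.act).left ≫ (D.φ a).left = ((snd G X'').left ≫ f''.left) ≫ (x₁ ≫ D.φ a).left := by
    rw [Category.assoc, ← hpb.w, ← Over.comp_left, ← Over.comp_left, ← Over.comp_left, Category.assoc,
      D.invariant a, whiskerLeft_snd_assoc]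
  let σO : G ⊗ X'' ⟶ X'' := Over.homMk (hpb.lift _ _ hcomm) (by
    show hpb.lift _ _ hcomm ≫ pr.left ≫ X.hom = _
    rw [hpb.lift_fst_assoc, Over.w])
  have hσ₁ : σO ≫ pr = (G ◁ pr) ≫ a.act := Over.OverMorphism.ext (hpb.lift_fst _ _ hcomm)
  have hσ₂ : σO ≫ f'' = snd G X'' ≫ f'' := Over.OverMorphism.ext (hpb.lift_snd _ _ hcomm)
  have H := D.isAvgQuot a pr f''.left (x₁ ≫ D.φ a).left hpb σO.left (congrArg CommaMorphism.left hσ₁)
    (congrArg CommaMorphism.left hσ₂)
  let j : X'' ⟶ X ⊗ T := lift pr f''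
  let W : (T ⟶ X) → Set X''.left := fun x => j.left.base ⁻¹' Set.range (GIT.psi a x).left.base
  have hcl : ∀ x : T ⟶ X, IsClosed (W x) := fun x =>
    (hc Ω T (Iso.refl _) x).preimage j.left.continuous
  have hst : ∀ x, Stab σO.left (snd G X'').left (W x) := by
    intro x w hw
    obtain ⟨v, hv⟩ := hw
    obtain ⟨q, hq1, hq2⟩ := Scheme.Pullback.exists_preimage_pullback
      (f := ((snd G X'') ≫ j).left) (g := (GIT.psi a x).left) w v (by
        rw [Over.comp_left, Scheme.Hom.comp_apply]; exact hv.symm)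
    let Q : Over (Spec (CommRingCat.of k)) :=
      Over.mk (pullback.fst ((snd G X'') ≫ j).left (GIT.psi a x).left ≫ (G ⊗ X'').hom)
    let u : Q ⟶ G ⊗ X'' := Over.homMk (pullback.fst ((snd G X'') ≫ j).left (GIT.psi a x).left) rfl
    let v' : Q ⟶ G ⊗ T := Over.homMk (pullback.snd ((snd G X'') ≫ j).left (GIT.psi a x).left) (by
      show pullback.snd _ _ ≫ (G ⊗ T).hom = pullback.fst _ _ ≫ (G ⊗ X'').hom
      rw [← Over.w (GIT.psi a x), ← pullback.condition_assoc, Over.w])
    have e : u ≫ snd G X'' ≫ j = v' ≫ GIT.psi a x := Over.OverMorphism.ext pullback.condition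
    have e1 : u ≫ snd G X'' ≫ pr = lift (v' ≫ fst G T) (v' ≫ snd G T ≫ x) ≫ a.act := by
      have := congrArg (fun t => t ≫ fst X T) e
      simp only [j, GIT.psi, Category.assoc, lift_fst] at this
      rw [this, ← Category.assoc v' (snd G T), ← lift_whiskerLeft_assoc, lift_comp_fst_snd]
    have e2 : u ≫ snd G X'' ≫ f'' = v' ≫ snd G T := by
      have := congrArg (fun t => t ≫ snd X T) e
      simpa only [j, GIT.psi, Category.assoc, lift_snd] using this
    have e3 : lift ((u ≫ fst G X'') * (v' ≫ fst G T)) (v' ≫ snd G T) ≫ GIT.psi a x = u ≫ σO ≫ j := by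
      rw [GIT.psi, comp_lift, lift_whiskerLeft_assoc, lift_snd, Category.assoc, lift_mul_act, ← e1, ← e2]
      simp only [j, comp_lift, hσ₁, hσ₂]
      congr 1
      rw [← Category.assoc u (snd G X''), ← lift_whiskerLeft_assoc, lift_comp_fst_snd]
    refine ⟨(lift ((u ≫ fst G X'') * (v' ≫ fst G T)) (v' ≫ snd G T)).left q, ?_⟩
    rw [← Scheme.Hom.comp_apply, ← Over.comp_left, e3, Over.comp_left, Scheme.Hom.comp_apply, Over.comp_left,
      Scheme.Hom.comp_apply]
    show j.left (σO.left ((pullback.fst ((snd G X'') ≫ j).left (GIT.psi a x).left) q)) = _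
    rw [hq1]
  obtain ⟨t⟩ : Nonempty T.left := inferInstanceAs (Nonempty (Spec (CommRingCat.of Ω)))
  haveI : Subsingleton T.left := inferInstanceAs (Subsingleton (PrimeSpectrum Ω))
  have hne : ∀ x : T ⟶ X, x ≫ D.φ a = x₁ ≫ D.φ a → (W x).Nonempty := by
    intro x hx
    let ℓ : (G ⊗ T).left ⟶ X''.left := hpb.lift ((G ◁ x) ≫ a.act).left (snd G T).left (by
      rw [← Over.comp_left, ← Over.comp_left, Category.assoc, D.invariant a, whiskerLeft_snd_assoc, hx])
    refine ⟨ℓ ((lift (1 : T ⟶ G) (𝟙 T)).left t), (lift (1 : T ⟶ G) (𝟙 T)).left t, ?_⟩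
    let ℓO : G ⊗ T ⟶ X'' := Over.homMk ℓ (by
      show ℓ ≫ pr.left ≫ X.hom = _
      rw [hpb.lift_fst_assoc, Over.w])
    have : ℓO ≫ j = GIT.psi a x := by
      simp only [j, GIT.psi, comp_lift]
      congr 1
      · exact Over.OverMorphism.ext (hpb.lift_fst _ _ _)
      · exact Over.OverMorphism.ext (hpb.lift_snd _ _ _)
    rw [← this, Over.comp_left, Scheme.Hom.comp_apply]
    rfl
  have hnd : ¬ Disjoint (W x₁) (W x₂) := fun hd => by
    have h := H.disjoint_image D.geomRed (hcl x₁) (hcl x₂) (hst x₁) (hst x₂) hd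
    obtain ⟨u₁, hu₁⟩ := hne x₁ rfl
    obtain ⟨u₂, hu₂⟩ := hne x₂ hs
    exact Set.disjoint_left.1 h ⟨u₁, hu₁, rfl⟩ ⟨u₂, hu₂, Subsingleton.elim (α := T.left) _ _⟩
  obtain ⟨w, ⟨v₁, hv₁⟩, v₂, hv₂⟩ := Set.not_disjoint_iff.1 hnd
  obtain ⟨q, hq1, hq2⟩ := Scheme.Pullback.exists_preimage_pullback (f := (GIT.psi a x₁).left)
    (g := (GIT.psi a x₂).left) v₁ v₂ (hv₁.trans hv₂.symm)
  let Q : Over (Spec (CommRingCat.of k)) :=
    Over.mk (pullback.fst (GIT.psi a x₁).left (GIT.psi a x₂).left ≫ (G ⊗ T).hom)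
  let u : Q ⟶ G ⊗ T := Over.homMk (pullback.fst (GIT.psi a x₁).left (GIT.psi a x₂).left) rfl
  let v : Q ⟶ G ⊗ T := Over.homMk (pullback.snd (GIT.psi a x₁).left (GIT.psi a x₂).left) (by
    show pullback.snd _ _ ≫ (G ⊗ T).hom = pullback.fst _ _ ≫ (G ⊗ T).hom
    rw [← Over.w (GIT.psi a x₂), ← pullback.condition_assoc, Over.w (GIT.psi a x₁), Over.w (GIT.psi a x₂)])
  have e : u ≫ GIT.psi a x₁ = v ≫ GIT.psi a x₂ := Over.OverMorphism.ext pullback.condition
  have e1 : lift (u ≫ fst G T) (u ≫ snd G T ≫ x₁) ≫ a.act = lift (v ≫ fst G T) (v ≫ snd G T ≫ x₂) ≫ a.act := by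
    have := congrArg (fun t => t ≫ fst X T) e
    simp only [GIT.psi, Category.assoc, lift_fst] at this
    rw [← Category.assoc u (snd G T), ← Category.assoc v (snd G T),
      ← lift_whiskerLeft_assoc (u ≫ fst G T) (u ≫ snd G T) x₁, ← lift_whiskerLeft_assoc (v ≫ fst G T) (v ≫ snd G T) x₂,
      lift_comp_fst_snd, lift_comp_fst_snd]
    exact this
  have e2 : u ≫ snd G T = v ≫ snd G T := by
    have := congrArg (fun t => t ≫ snd X T) e
    simpa only [GIT.psi, Category.assoc, lift_snd] using this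
  let c : Q ⟶ G ⊗ X := lift ((u ≫ fst G T)⁻¹ * (v ≫ fst G T)) (v ≫ snd G T ≫ x₂)
  have e3 : c ≫ a.act = u ≫ snd G T ≫ x₁ := by
    simp only [c]
    rw [lift_mul_act, ← e1, ← lift_mul_act, inv_mul_cancel, lift_one_act]
  have e4 : c.left ≫ GIT.PsiY a (D.φ a) (D.invariant a) = (u ≫ snd G T).left ≫ ω := by
    refine pullback.hom_ext ?_ ?_
    · rw [Category.assoc, Category.assoc, GIT.PsiY, pullback.lift_fst, ← Over.comp_left, e3, ← Category.assoc u,
        Over.comp_left]
      rfl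
    · rw [Category.assoc, Category.assoc, GIT.PsiY, pullback.lift_snd, ← Over.comp_left,
        show c ≫ snd G X = (u ≫ snd G T) ≫ x₂ by simp only [c, lift_snd]; rw [e2, Category.assoc],
        Over.comp_left]
      rfl
  refine ⟨c.left q, ?_⟩
  rw [← Scheme.Hom.comp_apply, e4, Scheme.Hom.comp_apply]
  exact hω _

theorem isGeomQuot_baseChange (hc : GIT.IsClosedAction a) {X' Y' : Over (Spec (CommRingCat.of k))} (pr : X' ⟶ X)
    (φ' : X' ⟶ Y') (g : Y' ⟶ D.Y a) (hpb : IsPullback pr φ' (D.φ a) g) (a' : AlgGrp.Action G X')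
    (ha' : a'.act ≫ pr = (G ◁ pr) ≫ a.act) (hinv : GIT.IsInvariant a' φ') : GIT.IsGeomQuot a' φ' := by
  have hpb' : IsPullback pr.left φ'.left (D.φ a).left g.left := hpb.map (Over.forget _)
  have H := D.isAvgQuot a pr φ'.left g.left hpb' a'.act.left (by rw [← Over.comp_left, ha'])
    (GIT.IsInvariant.left hinv)
  refine ⟨hinv, H.surjective, ?_, ?_, ?_⟩
  · intro z
    let m : pullback φ'.left φ'.left ⟶ pullback (D.φ a).left (D.φ a).left :=
      pullback.map _ _ _ _ pr.left pr.left g.left hpb'.w.symm hpb'.w.symm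
    obtain ⟨w, hw⟩ := D.orbit_surjective a hc (m z)
    obtain ⟨q, hq1, hq2⟩ := Scheme.Pullback.exists_preimage_pullback
      (f := GIT.PsiY a (D.φ a) (D.invariant a)) (g := m) w z hw
    let Q : Over (Spec (CommRingCat.of k)) :=
      Over.mk (pullback.fst (GIT.PsiY a (D.φ a) (D.invariant a)) m ≫ (G ⊗ X).hom)
    let u : Q ⟶ G ⊗ X := Over.homMk (pullback.fst (GIT.PsiY a (D.φ a) (D.invariant a)) m) rfl
    let z₂ := pullback.snd (GIT.PsiY a (D.φ a) (D.invariant a)) m
    have c1 : z₂ ≫ pullback.fst φ'.left φ'.left ≫ pr.left = u.left ≫ a.act.left := by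
      have := congrArg (fun t => t ≫ pullback.fst (D.φ a).left (D.φ a).left)
        (pullback.condition (f := GIT.PsiY a (D.φ a) (D.invariant a)) (g := m))
      rw [Category.assoc, Category.assoc, show GIT.PsiY a (D.φ a) (D.invariant a) ≫ pullback.fst _ _ = a.act.left from
          pullback.lift_fst _ _ _, show m ≫ pullback.fst _ _ = pullback.fst φ'.left φ'.left ≫ pr.left from
          pullback.lift_fst _ _ _] at this
      exact this.symm
    have c2 : z₂ ≫ pullback.snd φ'.left φ'.left ≫ pr.left = u.left ≫ (snd G X).left := by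
      have := congrArg (fun t => t ≫ pullback.snd (D.φ a).left (D.φ a).left)
        (pullback.condition (f := GIT.PsiY a (D.φ a) (D.invariant a)) (g := m))
      rw [Category.assoc, Category.assoc, show GIT.PsiY a (D.φ a) (D.invariant a) ≫ pullback.snd _ _ =
          (snd G X).left from pullback.lift_snd _ _ _, show m ≫ pullback.snd _ _ =
          pullback.snd φ'.left φ'.left ≫ pr.left from pullback.lift_snd _ _ _] at this
      exact this.symm
    let x : Q ⟶ X' := Over.homMk (z₂ ≫ pullback.snd φ'.left φ'.left) (by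
      show (z₂ ≫ pullback.snd φ'.left φ'.left) ≫ X'.hom = _
      rw [← Over.w pr, Category.assoc, reassoc_of% c2, Over.w]
      rfl)
    let c : Q ⟶ G ⊗ X' := lift (u ≫ fst G X) x
    have hx : x ≫ pr = u ≫ snd G X := Over.OverMorphism.ext ((Category.assoc _ _ _).trans c2)
    have e1 : c ≫ a'.act ≫ pr = u ≫ a.act := by
      simp only [c]
      rw [ha', lift_whiskerLeft_assoc, hx, lift_comp_fst_snd]
    have e : c.left ≫ GIT.PsiY a' φ' hinv = z₂ := by
      refine pullback.hom_ext ?_ ?_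
      · rw [Category.assoc, GIT.PsiY, pullback.lift_fst]
        refine hpb'.hom_ext ?_ ?_
        · rw [Category.assoc, ← Over.comp_left, ← Over.comp_left, e1, Category.assoc, c1, Over.comp_left]
        · rw [Category.assoc, GIT.IsInvariant.left hinv, ← Category.assoc, ← Over.comp_left, lift_snd, Category.assoc,
            pullback.condition]
          exact Category.assoc _ _ _
      · rw [Category.assoc, GIT.PsiY, pullback.lift_snd, ← Over.comp_left, lift_snd]
        rfl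
    refine ⟨c.left q, ?_⟩
    rw [← Scheme.Hom.comp_apply, e, hq2]
  · intro X'' Y'' i₁ i₂ f'' hpb''
    let Xo : Over (Spec (CommRingCat.of k)) := Over.mk ((i₁ ≫ pr.left) ≫ X.hom)
    let pro : Xo ⟶ X := Over.homMk (i₁ ≫ pr.left) rfl
    have hp : IsPullback pro.left f'' (D.φ a).left (i₂ ≫ g.left) := hpb''.flip.paste_horiz hpb'
    have hcomm : ((G ◁ pro) ≫ a.act).left ≫ (D.φ a).left = ((snd G Xo).left ≫ f'') ≫ i₂ ≫ g.left := by
      rw [Category.assoc, ← hp.w, ← Over.comp_left, ← Over.comp_left, ← Over.comp_left, Category.assoc,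
        D.invariant a, whiskerLeft_snd_assoc]
    exact (D.isAvgQuot a pro f'' (i₂ ≫ g.left) hp (hp.lift _ _ hcomm) (hp.lift_fst _ _ hcomm)
      (hp.lift_snd _ _ hcomm)).isQuotientMap D.geomRed
  · intro U
    let V := φ'.left ⁻¹ᵁ U
    let Xo : Over (Spec (CommRingCat.of k)) := Over.mk (V.ι ≫ X'.hom)
    let io : Xo ⟶ X' := Over.homMk V.ι rfl
    have hres : IsPullback V.ι (φ'.left ∣_ U) φ'.left U.ι := (isPullback_morphismRestrict φ'.left U).flip
    have hp : IsPullback (io ≫ pr).left (φ'.left ∣_ U) (D.φ a).left (U.ι ≫ g.left) := hres.paste_horiz hpb'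
    have hcomm : ((G ◁ io) ≫ a'.act).left ≫ φ'.left = ((snd G Xo).left ≫ (φ'.left ∣_ U)) ≫ U.ι := by
      rw [Category.assoc, ← hres.w, ← Over.comp_left, ← Category.assoc, show (snd G Xo).left ≫ V.ι =
        (snd G Xo ≫ io).left from rfl, ← Over.comp_left, Category.assoc, hinv, whiskerLeft_snd_assoc, Category.assoc]
    let σ := hres.lift _ _ hcomm
    have hσ₁ : σ ≫ V.ι = ((G ◁ io) ≫ a'.act).left := hres.lift_fst _ _ hcomm
    have Ho : IsAvgQuot D.α σ (snd G Xo).left (φ'.left ∣_ U) := D.isAvgQuot a (io ≫ pr) _ _ hp σ (by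
      rw [Over.comp_left, ← Category.assoc]
      show (σ ≫ V.ι) ≫ pr.left = _
      rw [hσ₁, ← Over.comp_left, Category.assoc, ha', MonoidalCategory.whiskerLeft_comp, Category.assoc])
      (hres.lift_snd _ _ hcomm)
    have hinj : ∀ {O : Scheme.{u}} (χ χ' : U.toScheme ⟶ O),
        (φ'.left ∣_ U) ≫ χ = (φ'.left ∣_ U) ≫ χ' → χ = χ' := fun χ χ' h =>
      Ho.hom_ext (𝟙 _) (by
        rw [show pullback.snd (φ'.left ∣_ U) (𝟙 _) = pullback.fst (φ'.left ∣_ U) (𝟙 _) ≫ (φ'.left ∣_ U) by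
          rw [pullback.condition, Category.comp_id], Category.assoc, Category.assoc, h])
    exact ⟨app_injective φ'.left U hinj, range_app a' φ' hinv U hinj σ hσ₁ (Ho.existsUnique_desc D.geomRed)⟩

end Data

end

end Groth.Agent.H60.AffQuot
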