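import Groth.Agent.H60.AffQuot.Geom

/-!
Geometric quotients of affine schemes by reductive groups.
-/

set_option autoImplicit false

universe u

open CategoryTheory CategoryTheory.Limits MonoidalCategory CartesianMonoidalCategory MonObj AlgebraicGeometry

namespace Groth.Agent.H60.AffQuot

noncomputable section

variable {k : Type u} [Field k] {G X Y : Over (Spec (CommRingCat.of k))} [GrpObj G]

/-- Categorical quotients are unique. -/
theorem exists_iso_of_isCatQuot {Y' : Over (Spec (CommRingCat.of k))} {a : AlgGrp.Action G X} {φ : X ⟶ Y}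
    {φ' : X ⟶ Y'} (h : GIT.IsCatQuot a φ) (h' : GIT.IsCatQuot a φ') : ∃ i : Y' ≅ Y, φ' ≫ i.hom = φ := by
  obtain ⟨χ, hχ, -⟩ := h'.2 Y φ h.1
  obtain ⟨χ', hχ', -⟩ := h.2 Y' φ' h'.1
  refine ⟨⟨χ, χ', ?_, ?_⟩, hχ⟩
  · exact (h'.2 Y' φ' h'.1).unique (by rw [reassoc_of% hχ, hχ']) (Category.comp_id _)
  · exact (h.2 Y φ h.1).unique (by rw [reassoc_of% hχ', hχ]) (Category.comp_id _)

theorem Data.isGeomQuot_iff (D : Data G X) (a : AlgGrp.Action G X) {φ : X ⟶ Y} (hq : GIT.IsCatQuot a φ) :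
    (GIT.IsGeomQuot a φ ↔ GIT.IsClosedAction a) ∧ (GIT.IsClosedAction a → GIT.IsUnivGeomQuot a φ) := by
  obtain ⟨i, hi⟩ := exists_iso_of_isCatQuot hq
    (D.isCatQuot a (D.φ a) (D.invariant a) (D.isAvgQuot_self a))
  have huniv : GIT.IsClosedAction a → GIT.IsUnivGeomQuot a φ := by
    intro hc
    have hsq : IsPullback (𝟙 X) φ (D.φ a) i.inv := IsPullback.of_horiz_isIso ⟨by rw [← hi]; simp⟩
    refine ⟨D.isGeomQuot_baseChange a hc (𝟙 X) φ i.inv hsq a (by simp) hq.1, ?_⟩
    intro X' Y' pr φ' g _ hpb a' ha' hinv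
    refine D.isGeomQuot_baseChange a hc pr φ' (g ≫ i.inv) ?_ a' ha' hinv
    have := hpb.paste_horiz hsq
    rwa [Category.comp_id] at this
  haveI : IsSeparated Y.hom := by
    haveI : IsIso i.inv.left := ((Over.forget _).mapIso i).isIso_inv
    haveI : IsSeparated (D.Y a).hom :=
      inferInstanceAs (IsSeparated (Spec.map (CommRingCat.ofHom (algebraMap k (D.inv a)))))
    rw [← Over.w i.inv]
    infer_instance
  exact ⟨⟨fun h => isClosedAction_of_isGeomQuot h, fun hc => (huniv hc).1⟩, huniv⟩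

end

end Groth.Agent.H60.AffQuot
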