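import Groth.Agent.H60.AffQuot.Avg
import Groth.Agent.Lib.Comod.Cartier
import Mathlib.RingTheory.HopfAlgebra.TensorProduct
import Mathlib.LinearAlgebra.Basis.VectorSpace
import Mathlib.FieldTheory.IsAlgClosed.AlgebraicClosure
import Mathlib.Algebra.CharP.Algebra
import Mathlib.RingTheory.LocalRing.ResidueField.Ideal

/-!
Hopf algebras of finite type in characteristic zero stay reduced over every reduced algebra.
-/

set_option autoImplicit false

universe u

open TensorProduct PrimeSpectrum

namespace Groth.Agent.H60.AffQuot

noncomputable section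

variable (k : Type u) [Field k] (A : Type u) [CommRing A] [HopfAlgebra k A]

theorem isReduced_tensor_field [CharZero k] [Algebra.FiniteType k A] (K : Type u) [Field K] [Algebra k K] :
    IsReduced (A ⊗[k] K) := by
  haveI : CharZero K := charZero_of_injective_algebraMap (algebraMap k K).injective
  letI : Algebra k (AlgebraicClosure K) := inferInstance
  haveI : CharZero (AlgebraicClosure K) := charZero_of_injective_algebraMap (algebraMap K _).injective
  haveI : IsReduced (AlgebraicClosure K ⊗[k] A) :=
    Groth.Agent.Lib.Comod.Cartier.isReduced (k := AlgebraicClosure K) (H := AlgebraicClosure K ⊗[k] A)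
  let f : A ⊗[k] K →ₐ[k] AlgebraicClosure K ⊗[k] A :=
    (Algebra.TensorProduct.comm k A (AlgebraicClosure K)).toAlgHom.comp
      (Algebra.TensorProduct.map (AlgHom.id k A) (IsScalarTower.toAlgHom k K (AlgebraicClosure K)))
  have hf : Function.Injective f := by
    intro x y hxy
    have h : (IsScalarTower.toAlgHom k K (AlgebraicClosure K)).toLinearMap.lTensor A x =
        (IsScalarTower.toAlgHom k K (AlgebraicClosure K)).toLinearMap.lTensor A y :=
      (Algebra.TensorProduct.comm k A (AlgebraicClosure K)).injective hxy
    exact Module.Flat.lTensor_preserves_injective_linearMap _ (algebraMap K (AlgebraicClosure K)).injective h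
  exact isReduced_of_injective f hf

theorem geomRed_of_forall_field (h : ∀ (K : Type u) [Field K] [Algebra k K], IsReduced (A ⊗[k] K)) :
    Avg.GeomRed k A := by
  intro S _ _ _
  let b := Module.Free.chooseBasis k A
  refine ⟨fun x hx => ?_⟩
  obtain ⟨c, rfl⟩ := TensorProduct.eq_repr_basis_left b x
  suffices hc : ∀ i, c i = 0 by simp [Finsupp.sum, hc]
  intro i
  refine (isNilpotent_iff_eq_zero (R := S)).1 ?_
  rw [← mem_nilradical, nilradical_eq_sInf, Ideal.mem_sInf]
  intro p hp
  haveI : p.IsPrime := hp
  let q : S →ₐ[k] p.ResidueField := IsScalarTower.toAlgHom k S p.ResidueField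
  haveI := h p.ResidueField
  have h0 : Algebra.TensorProduct.map (AlgHom.id k A) q (c.sum fun i m => b i ⊗ₜ[k] m) = 0 :=
    IsReduced.eq_zero _ (hx.map _)
  rw [map_finsuppSum] at h0
  simp only [Algebra.TensorProduct.map_tmul, AlgHom.id_apply] at h0
  have h1 : (c.mapRange q (map_zero q)).sum (fun i m => b i ⊗ₜ[k] m) = 0 := by
    rw [Finsupp.sum_mapRange_index (fun i => TensorProduct.tmul_zero _ _)]
    exact h0
  have h2 := TensorProduct.sum_tmul_basis_left_eq_zero b _ h1
  have h3 : q (c i) = 0 := by
    have := congrArg (fun g => g i) h2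
    simpa using this
  exact Ideal.algebraMap_residueField_eq_zero.1 h3

theorem geomRed [CharZero k] [Algebra.FiniteType k A] : Avg.GeomRed k A :=
  geomRed_of_forall_field k A fun K _ _ => isReduced_tensor_field k A K

end

end Groth.Agent.H60.AffQuot
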