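import Groth.Agent.H60.AffQuot.BaseChange
import Groth.Agent.H60.AffQuot.GeomRed
import Groth.Agent.H60.AffQuot.Finite
import Groth.Agent.H60.RedLR.Reductive
import Groth.Prelude.Def_W4bk4git07Quot
import Mathlib.AlgebraicGeometry.Noetherian

/-!
Quotients of affine schemes by reductive groups in characteristic zero.
-/

set_option autoImplicit false

universe u

open CategoryTheory CategoryTheory.Limits MonoidalCategory CartesianMonoidalCategory MonObj AlgebraicGeometry
  TensorProduct CoactBr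

namespace Groth.Agent.H60.AffQuot

noncomputable section

variable {k : Type u} [Field k]

theorem isReductive_congr {G G' : Over (Spec (CommRingCat.of k))} [GrpObj G] [GrpObj G'] (e : G ≅ G')
    [IsMonHom e.hom] (h : Red.IsReductive G) : Red.IsReductive G' := by
  obtain ⟨h1, h2, h3⟩ := h
  haveI : IsIso e.inv.left := ((Over.forget _).mapIso e).isIso_inv
  haveI := h1
  haveI := h2
  refine ⟨?_, ?_, fun s => ?_⟩
  · rw [← Over.w e.inv]; infer_instance
  · rw [← Over.w e.inv]; infer_instance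
  · haveI : IsMonHom ((Over.pullback (Red.geomPt s)).mapIso e).hom :=
      inferInstanceAs (IsMonHom ((Over.pullback (Red.geomPt s)).map e.hom))
    exact Groth.Agent.H60.RedLR.isReductiveOver_congr ((Over.pullback (Red.geomPt s)).mapIso e) (h3 s)

/-- An affine scheme over the field is the spectrum of its functions. -/
theorem exists_iso_sp (X : Over (Spec (CommRingCat.of k))) [IsAffine X.left] :
    ∃ (R : Type u) (_ : CommRing R) (_ : Algebra k R), Nonempty (X ≅ sp k R) := by
  obtain ⟨f, hf⟩ : ∃ f, Spec.map f = X.left.isoSpec.inv ≫ X.hom := ⟨_, Spec.map_preimage _⟩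
  letI := f.hom.toAlgebra
  refine ⟨Γ(X.left, ⊤), inferInstance, inferInstance, ⟨Over.isoMk X.left.isoSpec ?_⟩⟩
  show X.left.isoSpec.hom ≫ Spec.map f = X.hom
  rw [hf, Iso.hom_inv_id_assoc]

/-- The data attached to an action of a linearly reductive group. -/
structure Data (G X : Over (Spec (CommRingCat.of k))) [GrpObj G] where
  A : Type u
  [crA : CommRing A]
  [hopfA : HopfAlgebra k A]
  [ftA : Algebra.FiniteType k A]
  R : Type u
  [crR : CommRing R]
  [algR : Algebra k R]
  e : G ≅ sp k A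
  [mon : IsMonHom e.hom]
  eX : X ≅ sp k R
  α : A →ₗ[k] k
  h1 : α 1 = 1
  hα : ∀ b, α b ⊗ₜ[k] (1 : A) = α.rTensor A (CoalgebraStruct.comul b)
  lr : HopfRep.IsLinearlyReductive k A
  geomRed : Avg.GeomRed k A

attribute [instance] Data.crA Data.hopfA Data.ftA Data.crR Data.algR Data.mon

theorem exists_data [CharZero k] (G X : Over (Spec (CommRingCat.of k))) [GrpObj G] (hG : Red.IsReductive G)
    [IsAffine X.left] : Nonempty (Data G X) := by
  haveI := hG.1
  haveI : IsAffine G.left := isAffine_of_isAffineHom G.hom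
  obtain ⟨A, _, _, e, he⟩ := Groth.Agent.H1.Hopf.exists_iso G
  haveI := he
  obtain ⟨R, _, _, ⟨eX⟩⟩ := exists_iso_sp X
  have h := isReductive_congr e hG
  haveI : Smooth ((Spec (CommRingCat.of A)).asOver (Spec (CommRingCat.of k))).hom := h.2.1
  haveI : Algebra.FiniteType k A := Groth.Agent.H1.Hopf.finiteType_of_locallyOfFiniteType inferInstance
  have hLR := Groth.Agent.H60.RedLR.isLinearlyReductive_of_isReductive (A := A) h
  obtain ⟨α, h1, hα⟩ := (Groth.Agent.H66.Tame.hasIntegral_iff (k := k) (A := A)).2 hLR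
  exact ⟨{ A := A, R := R, e := e, eX := eX, α := α, h1 := h1, hα := hα, lr := hLR, geomRed := geomRed k A }⟩

variable {G X : Over (Spec (CommRingCat.of k))} [GrpObj G] (D : Data G X) (a : AlgGrp.Action G X)

namespace Data

/-- The ring of invariants. -/
abbrev inv : Subalgebra k D.R := inv₀ D.e D.eX a

/-- The quotient. -/
abbrev Y : Over (Spec (CommRingCat.of k)) := sp k (D.inv a)

/-- The quotient map. -/
abbrev φ : X ⟶ D.Y a := quotMap D.e D.eX a

theorem invariant : GIT.IsInvariant a (D.φ a) := quotMap_invariant D.e D.eX a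

theorem isAvgQuot {X' : Over (Spec (CommRingCat.of k))} (pr : X' ⟶ X) {Y' : Scheme.{u}} (f' : X'.left ⟶ Y')
    (g : Y' ⟶ (D.Y a).left) (hpb : IsPullback pr.left f' (D.φ a).left g) (σ : (G ⊗ X').left ⟶ X'.left)
    (hσ₁ : σ ≫ pr.left = ((G ◁ pr) ≫ a.act).left) (hσ₂ : σ ≫ f' = (snd G X').left ≫ f') :
    IsAvgQuot D.α σ (snd G X').left f' :=
  Groth.Agent.H60.AffQuot.isAvgQuot D.e D.eX a D.α D.h1 D.hα pr f' g σ hpb hσ₁ hσ₂

theorem isAvgQuot_self : IsAvgQuot D.α a.act.left (snd G X).left (D.φ a).left :=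
  D.isAvgQuot a (𝟙 X) (D.φ a).left (𝟙 _) (IsPullback.of_horiz_isIso ⟨by simp⟩) a.act.left
    (by rw [whiskerLeft_id, Category.id_comp]; exact Category.comp_id _) (D.invariant a).left

theorem isCatQuot {X' Y' : Over (Spec (CommRingCat.of k))} (a' : AlgGrp.Action G X') (φ' : X' ⟶ Y')
    (hinv : GIT.IsInvariant a' φ') (H : IsAvgQuot D.α a'.act.left (snd G X').left φ'.left) :
    GIT.IsCatQuot a' φ' := by
  refine ⟨hinv, fun Z ψ hψ => ?_⟩
  obtain ⟨χ, hχ, huniq⟩ := H.existsUnique_desc D.geomRed ψ.left (GIT.IsInvariant.left hψ)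
  have hw : χ ≫ Z.hom = Y'.hom := by
    obtain ⟨c, hc, hcu⟩ := H.existsUnique_desc D.geomRed X'.hom (by rw [Over.w, Over.w])
    exact (hcu _ (show φ'.left ≫ χ ≫ Z.hom = X'.hom by rw [← Category.assoc, hχ, Over.w])).trans
      (hcu _ (Over.w φ')).symm
  refine ⟨Over.homMk χ hw, Over.OverMorphism.ext hχ, fun χ' hχ' => Over.OverMorphism.ext ?_⟩
  exact huniq χ'.left ((Over.comp_left (f := φ') (g := χ')).symm.trans (congrArg (fun f => Over.Hom.left f) hχ'))

theorem isUnivCatQuot : GIT.IsUnivCatQuot a (D.φ a) := by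
  refine ⟨D.isCatQuot a (D.φ a) (D.invariant a) (D.isAvgQuot_self a), ?_⟩
  intro X' Y' pr φ' g _ hpb a' ha' hinv
  refine D.isCatQuot a' φ' hinv (D.isAvgQuot a pr φ'.left g.left (hpb.map (Over.forget _)) a'.act.left ?_
    (GIT.IsInvariant.left hinv))
  rw [← Over.comp_left, ha']

theorem isUnivSubmersive : GIT.IsUnivSubmersive (D.φ a).left := by
  intro X' Y' i₁ i₂ f' hpb
  let X'' : Over (Spec (CommRingCat.of k)) := Over.mk (i₁ ≫ X.hom)
  let pr : X'' ⟶ X := Over.homMk i₁ rfl
  have hcomm : ((G ◁ pr) ≫ a.act).left ≫ (D.φ a).left = ((snd G X'').left ≫ f') ≫ i₂ := by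
    rw [← Over.comp_left, Category.assoc, D.invariant a, whiskerLeft_snd_assoc, Category.assoc, hpb.w,
      Over.comp_left, Over.comp_left]
    rfl
  exact (D.isAvgQuot a pr f' i₂ hpb.flip (hpb.flip.lift _ _ hcomm) (hpb.flip.lift_fst _ _ hcomm)
    (hpb.flip.lift_snd _ _ hcomm)).isQuotientMap D.geomRed

/-- The scheme as a spectrum. -/
def hom₀ : X.left ⟶ Spec (CommRingCat.of D.R) := D.eX.hom.left

/-- The scheme as a spectrum, inverse. -/
def inv₁ : Spec (CommRingCat.of D.R) ⟶ X.left := D.eX.inv.left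

instance isIso_hom₀ : IsIso D.hom₀ := ((Over.forget _).mapIso D.eX).isIso_hom

instance isIso_appTop_hom₀ : IsIso D.hom₀.appTop := inferInstanceAs (IsIso (D.hom₀.app ⊤))

theorem hom₀_inv₁ : D.hom₀ ≫ D.inv₁ = 𝟙 _ := congrArg CommaMorphism.left D.eX.hom_inv_id

/-- The product as a spectrum. -/
def prod₀ : Spec (CommRingCat.of (D.A ⊗[k] D.R)) ⟶ (G ⊗ X).left := (prodPt D.e D.eX).left

instance isIso_prod₀ : IsIso D.prod₀ := ((Over.forget _).mapIso (asIso (prodPt D.e D.eX))).isIso_hom

instance isIso_appTop_prod₀ : IsIso D.prod₀.appTop := inferInstanceAs (IsIso (D.prod₀.app ⊤))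

theorem prod₀_snd : D.prod₀ ≫ (snd G X).left ≫ D.hom₀ =
    Spec.map (CommRingCat.ofHom (inR (k := k) (A := D.A) D.R).toRingHom) :=
  congrArg CommaMorphism.left (show prodPt D.e D.eX ≫ snd G X ≫ D.eX.hom = pt Algebra.TensorProduct.includeRight by
    rw [prodPt, lift_snd_assoc, xPt, Category.assoc, Iso.inv_hom_id, Category.comp_id])

theorem prod₀_act : D.prod₀ ≫ a.act.left ≫ D.hom₀ = Spec.map (CommRingCat.ofHom (coact D.e D.eX a).toRingHom) :=
  (congrArg CommaMorphism.left (pt_coact D.e D.eX a)).symm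

theorem φ_left : (D.φ a).left = D.hom₀ ≫ Spec.map (CommRingCat.ofHom (D.inv a).val.toRingHom) := rfl

theorem Spec_appTop_inv {S T : Type u} [CommRing S] [CommRing T] (f : S →+* T) (r : S) :
    (Spec.map (CommRingCat.ofHom f)).appTop ((Scheme.ΓSpecIso (CommRingCat.of S)).inv r) =
      (Scheme.ΓSpecIso (CommRingCat.of T)).inv (f r) :=
  (congrArg (fun m => m.hom r) (Scheme.ΓSpecIso_inv_naturality (CommRingCat.ofHom f))).symm

theorem injective_appTop : Function.Injective (D.φ a).left.appTop := by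
  intro x y h
  obtain ⟨x, rfl⟩ := (ConcreteCategory.bijective_of_isIso (Scheme.ΓSpecIso (CommRingCat.of (D.inv a))).inv).2 x
  obtain ⟨y, rfl⟩ := (ConcreteCategory.bijective_of_isIso (Scheme.ΓSpecIso (CommRingCat.of (D.inv a))).inv).2 y
  change D.hom₀.appTop ((Spec.map (CommRingCat.ofHom (D.inv a).val.toRingHom)).appTop _) =
    D.hom₀.appTop ((Spec.map (CommRingCat.ofHom (D.inv a).val.toRingHom)).appTop _) at h
  rw [Spec_appTop_inv, Spec_appTop_inv] at h
  exact congrArg _ (Subtype.val_injective ((ConcreteCategory.bijective_of_isIso (Scheme.ΓSpecIso (CommRingCat.of D.R)).inv).1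
    ((ConcreteCategory.bijective_of_isIso D.hom₀.appTop).1 h)))

/-- The function of an element of the coordinate ring. -/
def toΓ (r : D.R) : Γ(X.left, ⊤) := D.hom₀.appTop ((Scheme.ΓSpecIso (CommRingCat.of D.R)).inv r)

theorem toΓ_bijective : Function.Bijective D.toΓ :=
  (ConcreteCategory.bijective_of_isIso D.hom₀.appTop).comp
    (ConcreteCategory.bijective_of_isIso (Scheme.ΓSpecIso (CommRingCat.of D.R)).inv)

theorem toΓ_invariant_iff (r : D.R) :
    a.act.left.appTop (D.toΓ r) = (snd G X).left.appTop (D.toΓ r) ↔ r ∈ D.inv a := by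
  have key : ∀ (f : (G ⊗ X).left ⟶ X.left) (δ : D.R →+* D.A ⊗[k] D.R),
      D.prod₀ ≫ f ≫ D.hom₀ = Spec.map (CommRingCat.ofHom δ) →
      D.prod₀.appTop (f.appTop (D.toΓ r)) = (Scheme.ΓSpecIso (CommRingCat.of (D.A ⊗[k] D.R))).inv (δ r) := by
    intro f δ h
    rw [← Spec_appTop_inv δ r, ← h]
    rfl
  have k1 := key a.act.left _ (D.prod₀_act a)
  have k2 := key (snd G X).left _ D.prod₀_snd
  rw [mem_inv₀]
  constructor
  · intro h
    rw [h, k2] at k1
    exact ((ConcreteCategory.bijective_of_isIso (Scheme.ΓSpecIso (CommRingCat.of (D.A ⊗[k] D.R))).inv).1 k1).symm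
  · intro h
    exact (ConcreteCategory.bijective_of_isIso D.prod₀.appTop).1 (k1.trans ((congrArg _ h).trans k2.symm))

theorem range_appTop : Set.range (D.φ a).left.appTop =
    {f : Γ(X.left, ⊤) | a.act.left.appTop f = (snd G X).left.appTop f} := by
  have hφ : ∀ c : D.inv a, (D.φ a).left.appTop ((Scheme.ΓSpecIso (CommRingCat.of (D.inv a))).inv c) = D.toΓ c := by
    intro c
    show D.hom₀.appTop ((Spec.map (CommRingCat.ofHom (D.inv a).val.toRingHom)).appTop _) = _
    rw [Spec_appTop_inv]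
    rfl
  ext f
  obtain ⟨r, rfl⟩ := D.toΓ_bijective.2 f
  refine Iff.trans ⟨?_, fun h => ⟨_, hφ ⟨r, h⟩⟩⟩ (D.toΓ_invariant_iff a r).symm
  rintro ⟨c, hc⟩
  obtain ⟨c, rfl⟩ := (ConcreteCategory.bijective_of_isIso (Scheme.ΓSpecIso (CommRingCat.of (D.inv a))).inv).2 c
  rw [hφ] at hc
  rw [← D.toΓ_bijective.1 hc]
  exact c.2

/-- The averaging operator on the coordinate ring. -/
def avg : Avg (B := D.inv a) D.α (coact D.e D.eX a).toRingHom where
  one := D.h1
  E := (average D.e D.eX a D.α D.hα).toAddMonoidHom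
  E_mul b t := (average D.e D.eX a D.α D.hα).map_smul b t
  E_one := average_one D.e D.eX a D.α D.h1 D.hα
  alg _ := rfl

theorem isNoetherianRing [IsNoetherianRing D.R] : IsNoetherianRing (D.inv a) := by
  rw [isNoetherianRing_iff, _root_.isNoetherian_iff]
  refine (InvImage.wf (fun I : Ideal (D.inv a) => I.map (algebraMap (D.inv a) D.R))
    (_root_.isNoetherian_iff.1 (isNoetherianRing_iff.1 ‹_›))).mono fun I J h => ?_
  refine lt_of_le_of_ne (Ideal.map_mono h.le) fun he => h.ne' ?_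
  have hret : ∀ L : Ideal (D.inv a), ∀ x ∈ L.map (algebraMap (D.inv a) D.R), (D.avg a).E x ∈ L := fun L x hx => by
    rw [Ideal.map] at hx
    induction hx using Submodule.span_induction with
    | mem x hx => obtain ⟨c, hc, rfl⟩ := hx; rw [(D.avg a).E_algebraMap]; exact hc
    | zero => rw [map_zero]; exact L.zero_mem
    | add p q _ _ hp hq => rw [map_add]; exact L.add_mem hp hq
    | smul c x hx' _ =>
      clear * - hx'
      rw [smul_eq_mul]
      induction hx' using Submodule.span_induction generalizing c with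
      | mem x hx =>
        obtain ⟨b, hb, rfl⟩ := hx
        rw [mul_comm, (D.avg a).E_mul]
        exact L.mul_mem_right _ hb
      | zero => rw [mul_zero, map_zero]; exact L.zero_mem
      | add p q _ _ hp hq => rw [mul_add, map_add]; exact L.add_mem (hp c) (hq c)
      | smul b x _ ih => rw [smul_eq_mul, ← _root_.mul_assoc]; exact ih (c * b)
  refine le_antisymm (fun x hx => ?_) h.le
  rw [← (D.avg a).E_algebraMap x]
  exact hret _ _ (show algebraMap (D.inv a) D.R x ∈ _ from
    (show J.map (algebraMap (D.inv a) D.R) = I.map _ from he) ▸ Ideal.mem_map_of_mem _ hx)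

/-- The coordinate ring is the ring of global functions. -/
def toΓEquiv : D.R ≃+* Γ(X.left, ⊤) :=
  RingEquiv.ofBijective (D.hom₀.appTop.hom.comp (Scheme.ΓSpecIso (CommRingCat.of D.R)).inv.hom)
    D.toΓ_bijective

theorem isNoetherian [IsAffine X.left] (h : IsNoetherian X.left) : IsNoetherian (D.Y a).left := by
  haveI := h
  haveI : IsNoetherianRing Γ(X.left, ⊤) :=
    IsLocallyNoetherian.component_noetherian (⟨⊤, isAffineOpen_top X.left⟩ : X.left.affineOpens)
  haveI : IsNoetherianRing D.R := isNoetherianRing_of_ringEquiv _ D.toΓEquiv.symm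
  haveI := D.isNoetherianRing a
  exact inferInstanceAs (IsNoetherian (Spec (CommRingCat.of (D.inv a))))

theorem locallyOfFiniteType (h : LocallyOfFiniteType X.hom) : LocallyOfFiniteType (D.Y a).hom := by
  haveI : IsIso D.eX.inv.left := ((Over.forget _).mapIso D.eX).isIso_inv
  have h' : LocallyOfFiniteType (sp k D.R).hom := by
    rw [← Over.w D.eX.inv]
    haveI := h
    infer_instance
  haveI : Algebra.FiniteType k D.R := Groth.Agent.H1.Hopf.finiteType_of_locallyOfFiniteType h'
  haveI := finiteType_inv₀ D.e D.eX a D.lr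
  show LocallyOfFiniteType (Spec.map (CommRingCat.ofHom (algebraMap k (D.inv a))))
  rw [HasRingHomProperty.Spec_iff (P := @LocallyOfFiniteType)]
  exact RingHom.finiteType_algebraMap.mpr inferInstance

theorem exists_separating (W₁ W₂ : Set X.left) (h₁ : IsClosed W₁) (h₂ : IsClosed W₂)
    (hi₁ : a.act.left.base '' ((snd G X).left.base ⁻¹' W₁) ⊆ W₁)
    (hi₂ : a.act.left.base '' ((snd G X).left.base ⁻¹' W₂) ⊆ W₂) (hd : Disjoint W₁ W₂) :
    ∃ r ∈ D.inv a, W₁ ⊆ X.left.zeroLocus (U := ⊤) {D.toΓ r} ∧ W₂ ⊆ X.left.zeroLocus (U := ⊤) {1 - D.toΓ r} := by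
  let i := D.inv₁
  have hinv : ∀ W : Set X.left, a.act.left.base '' ((snd G X).left.base ⁻¹' W) ⊆ W →
      Avg.InvSet (coact D.e D.eX a).toRingHom (i.base ⁻¹' W) := by
    intro W hW Q hQ
    have e1 : D.prod₀ ≫ (snd G X).left =
        Spec.map (CommRingCat.ofHom (inR (k := k) (A := D.A) D.R).toRingHom) ≫ i := by
      rw [← D.prod₀_snd, Category.assoc, Category.assoc, hom₀_inv₁, Category.comp_id]
    have e2 : D.prod₀ ≫ a.act.left =
        Spec.map (CommRingCat.ofHom (coact D.e D.eX a).toRingHom) ≫ i := by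
      rw [← D.prod₀_act a, Category.assoc, Category.assoc, hom₀_inv₁, Category.comp_id]
    refine hW ⟨D.prod₀ Q, ?_, ?_⟩
    · show (snd G X).left (D.prod₀ Q) ∈ W
      rw [← Scheme.Hom.comp_apply, e1]
      exact hQ
    · show a.act.left (D.prod₀ Q) = _
      rw [← Scheme.Hom.comp_apply, e2]
      rfl
  obtain ⟨b, hb₁, hb₂⟩ := (D.avg a).exists_separating D.geomRed (h₁.preimage i.continuous) (h₂.preimage i.continuous)
    (hinv W₁ hi₁) (hinv W₂ hi₂) (hd.preimage _)
  have hz : ∀ r : D.R, X.left.zeroLocus (U := ⊤) {D.toΓ r} = D.hom₀.base ⁻¹' PrimeSpectrum.zeroLocus {r} := by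
    intro r
    rw [Scheme.zeroLocus_singleton, toΓ, ← Scheme.preimage_basicOpen_top, basicOpen_eq_of_affine]
    show (D.hom₀.base ⁻¹' (PrimeSpectrum.basicOpen r : Set (PrimeSpectrum D.R)))ᶜ = _
    rw [PrimeSpectrum.basicOpen_eq_zeroLocus_compl]
    exact compl_compl _
  have hi : ∀ x, i (D.hom₀ x) = x := fun x => by
    rw [← Scheme.Hom.comp_apply, hom₀_inv₁]
    rfl
  refine ⟨b, b.2, fun x hx => ?_, fun x hx => ?_⟩
  · rw [hz]
    exact hb₁ (show i (D.hom₀ x) ∈ W₁ by rw [hi]; exact hx)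
  · rw [show (1 : Γ(X.left, ⊤)) - D.toΓ b = D.toΓ (1 - b) from (congrArg (· - D.toΓ b) (map_one D.toΓEquiv).symm).trans (map_sub D.toΓEquiv 1 _).symm, hz]
    exact hb₂ (show i (D.hom₀ x) ∈ W₂ by rw [hi]; exact hx)

end Data

end

end Groth.Agent.H60.AffQuot
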